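import Mathlib
import Cfsg.Agent.Lib.FgsC.DihedralPairQuot
import Cfsg.Agent.Lib.Coprime.Gaschutz

/-!
Recognition of `C₂ × S₄` from a central subgroup of order two in a group of order 48.
-/

set_option autoImplicit false

namespace CfsgLib.LocalEven.S3Amalgam

open Cfsg

/-- A group of order 48 is `C₂ × S₄` if it has a self-centralizing normal `Q` of order 8, a central
`C ≤ Q` of order two and an overgroup `U` of `C` of odd index whose squares avoid `C`. -/
theorem equiv_prod_perm_four {P : Type*} [Group P] [Finite P] (hP : Nat.card P = 48)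
    (Q : Subgroup P) [Q.Normal] (hQ : Nat.card Q = 8) (hQC : Subgroup.centralizer (Q : Set P) ≤ Q)
    (C : Subgroup P) (hC : C ≤ Subgroup.center P) (hCQ : C ≤ Q) (hC2 : Nat.card C = 2)
    (U : Subgroup P) (hCU : C ≤ U) (hU : U.index = 3) (R : Subgroup P) (hRU : R ≤ U)
    (hRC : R ⊓ C = ⊥) (hsq : ∀ u ∈ U, u * u ∈ R) :
    Nonempty (P ≃* Multiplicative (ZMod 2) × Equiv.Perm (Fin 4)) := by
  classical
  haveI : C.Normal := ⟨fun n hn g => by
    rw [Subgroup.mem_center_iff.1 (hC hn) g, mul_inv_cancel_right]; exact hn⟩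
  haveI : IsMulCommutative C :=
    ⟨⟨fun a b => Subtype.ext (Subgroup.mem_center_iff.1 (hC b.2) a)⟩⟩
  obtain ⟨M, hRM, hM⟩ := Finite.exists_le_maximal
    (p := fun M : Subgroup P => R ≤ M ∧ M ≤ U ∧ M ⊓ C = ⊥) (a := R) ⟨le_rfl, hRU, hRC⟩
  obtain ⟨⟨-, hMU, hMC⟩, hmax⟩ := hM
  have hnorm : ∀ u ∈ U, ∀ m ∈ M, u * m * u⁻¹ ∈ M := by
    intro u hu m hm
    have e : u * m * u⁻¹ = (u * m) * (u * m) * m⁻¹ * (u⁻¹ * u⁻¹) := by group
    rw [e]
    exact M.mul_mem (M.mul_mem (hRM (hsq _ (U.mul_mem hu (hMU hm)))) (M.inv_mem hm))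
      (hRM (hsq _ (U.inv_mem hu)))
  have hsup : C ⊔ M = U := by
    refine le_antisymm (sup_le hCU hMU) fun t ht => ?_
    by_contra htn
    have htM : t ∉ M := fun h => htn (le_sup_right (a := C) h)
    have hle : M ⊔ Subgroup.zpowers t ≤ U := sup_le hMU (Subgroup.zpowers_le.2 ht)
    have hnew : (M ⊔ Subgroup.zpowers t) ⊓ C = ⊥ := by
      rw [Subgroup.eq_bot_iff_forall]
      rintro x ⟨hx, hxC⟩
      have hn : Subgroup.zpowers t ≤ Subgroup.normalizer (M : Set P) := by
        refine Subgroup.zpowers_le.2 (Subgroup.mem_normalizer_iff.2 fun m => ⟨hnorm t ht m, fun h => ?_⟩)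
        have := hnorm t⁻¹ (U.inv_mem ht) _ h
        simpa [mul_assoc] using this
      have hx' : x ∈ Subgroup.zpowers t ⊔ M := by rwa [sup_comm]
      rw [← SetLike.mem_coe, Subgroup.coe_mul_of_left_le_normalizer_right _ _ hn] at hx'
      obtain ⟨_, ⟨j, rfl⟩, m, hm, rfl⟩ := hx'
      rcases Int.even_or_odd j with ⟨k, rfl⟩ | ⟨k, rfl⟩
      · refine Subgroup.mem_bot.1 (hMC ▸ (⟨M.mul_mem ?_ hm, hxC⟩ : _ ∧ _))
        show t ^ (k + k) ∈ M
        rw [zpow_add]
        exact hRM (hsq _ (U.zpow_mem ht k))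
      · exfalso
        have e : t = (t ^ k * t ^ k)⁻¹ * (t ^ (2 * k + 1) * m) * m⁻¹ := by group
        refine htn ?_
        rw [e]
        exact Subgroup.mul_mem _ (Subgroup.mul_mem _
          (le_sup_right (a := C) (M.inv_mem (hRM (hsq _ (U.zpow_mem ht k)))))
          (le_sup_left (b := M) hxC)) (le_sup_right (a := C) (M.inv_mem hm))
    exact htM ((hmax ⟨le_sup_of_le_left hRM, hle, hnew⟩ le_sup_left)
      (le_sup_right (a := M) (Subgroup.mem_zpowers t)))
  obtain ⟨H, hH⟩ := CfsgLib.Coprime.gaschutz_exists C U hCU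
    (by rw [hC2, hU]; decide) M hMU hMC hsup
  have hH24 : Nat.card H = 24 := by
    have := hH.card_mul
    rw [hC2, hP] at this
    omega
  have hrel : Q.relIndex H = 6 := by
    rw [← Subgroup.relIndex_sup_right H Q, show H ⊔ Q = ⊤ from top_le_iff.1
      (hH.sup_eq_top.ge.trans (sup_le (le_sup_of_le_right hCQ) le_sup_left)),
      Subgroup.relIndex_top_right]
    have := Q.card_mul_index
    rw [hQ, hP] at this
    omega
  have hV : Nat.card (Q.subgroupOf H) = 4 := by
    have := (Q.subgroupOf H).card_mul_index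
    rw [show (Q.subgroupOf H).index = 6 from hrel, hH24] at this
    omega
  have hHC : Subgroup.centralizer ((Q.subgroupOf H : Subgroup H) : Set H) ≤ Q.subgroupOf H := by
    intro x hx
    rw [Subgroup.mem_subgroupOf]
    refine hQC (Subgroup.mem_centralizer_iff.2 fun q hq => ?_)
    obtain ⟨⟨⟨c, hc⟩, ⟨y, hy⟩⟩, he⟩ := hH.2 q
    have hyQ : y ∈ Q := by
      have : y = c⁻¹ * q := by rw [← he]; simp
      rw [this]
      exact Q.mul_mem (Q.inv_mem (hCQ hc)) hq
    have h1 : Commute c (x : P) :=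
      (Subgroup.mem_center_iff.1 (hC hc) (x : P)).symm
    have h2 : Commute y (x : P) :=
      congrArg Subtype.val (Subgroup.mem_centralizer_iff.1 hx ⟨y, hy⟩ hyQ)
    rw [← he]
    exact (h1.mul_left h2).eq
  obtain ⟨eH⟩ := FgsC.DihPair.equiv_perm_four hH24 (Q.subgroupOf H) hV hHC
  haveI : Fact (Nat.Prime 2) := ⟨Nat.prime_two⟩
  have eC : C ≃* Multiplicative (ZMod 2) := mulEquivOfPrimeCardEq hC2 (by simp)
  have hcomm : ∀ (c : C) (y : H), Commute (C.subtype c) (H.subtype y) := fun c y =>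
    (Subgroup.mem_center_iff.1 (hC c.2) (y : P)).symm
  let e : C × H ≃* P := MulEquiv.ofBijective (MonoidHom.noncommCoprod C.subtype H.subtype hcomm) hH
  exact ⟨e.symm.trans (eC.prodCongr eH)⟩

end CfsgLib.LocalEven.S3Amalgam
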