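import Cfsg.Agent.Lib.LocalEven.S3Amalgam.Shift
import Cfsg.Agent.Lib.LocalEven.S3Amalgam.Ident

/-!
The vertex stabilizers of an amalgam with both residues `S₃` are `S₄` or `C₂ × S₄`.
-/

set_option autoImplicit false
set_option linter.unusedSectionVars false

namespace CfsgLib.LocalEven.S3Amalgam

open Cfsg

variable {X : Type*} [Group X] {M₁ M₂ : Subgroup X}

local notation "V" => CosetVertex M₁ M₂
local notation "Adj" => SimpleGraph.Adj (cosetGraph M₁ M₂)
local notation "St" => MulAction.stabilizer X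
local notation "bd" => criticalDistance 2 M₁ M₂

theorem card_eq_two_mul {H K : Subgroup X} (hle : K ≤ H) [Finite H] {a : X} (ha : a ∈ H)
    (haK : a ∉ K) (hx : ∀ x ∈ H, x ∉ K → x * a ∈ K) : Nat.card H = 2 * Nat.card K := by
  have hi : (K.subgroupOf H).index = 2 := by
    refine Subgroup.index_eq_two_iff.2 ⟨⟨a, ha⟩, fun b => ?_⟩
    simp only [Subgroup.mem_subgroupOf, Subgroup.coe_mul]
    by_cases hb : (b : X) ∈ K
    · exact Or.inr ⟨hb, fun hba => haK ((K.mul_mem_cancel_left hb).1 hba)⟩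
    · exact Or.inl ⟨hx b b.2 hb, hb⟩
  have := (K.subgroupOf H).card_mul_index
  rw [CfsgLib.Base.card_subgroupOf hle, hi] at this
  omega

theorem element_comm {z d z' d' : X} (h1 : Commute z d) (h2 : Commute z z') (h3 : Commute z d')
    (h4 : Commute z' d) (h5 : Commute z' d') :
    z * d * (z' * d') * (z * d)⁻¹ * (z' * d')⁻¹ = d * d' * d⁻¹ * d'⁻¹ := by
  have a1 : Commute z (d * (z' * d') * d⁻¹) :=
    (h1.mul_right (h2.mul_right h3)).mul_right h1.inv_right
  have a2 : Commute z' (d * d' * d⁻¹ * d'⁻¹) :=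
    ((h4.mul_right h5).mul_right h4.inv_right).mul_right h5.inv_right
  calc z * d * (z' * d') * (z * d)⁻¹ * (z' * d')⁻¹
      = z * (d * (z' * d') * d⁻¹) * z⁻¹ * (z' * d')⁻¹ := by group
    _ = d * (z' * d') * d⁻¹ * (z' * d')⁻¹ := by rw [a1.eq, mul_inv_cancel_right]
    _ = z' * (d * d' * d⁻¹ * d'⁻¹) * z'⁻¹ := by
      rw [← mul_assoc d z' d', ← h4.eq, mul_inv_rev]; group
    _ = d * d' * d⁻¹ * d'⁻¹ := by rw [a2.eq, mul_inv_cancel_right]

/-- `α` and `β` are adjacent and critical. -/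
structure Edge (α β : V) : Prop where
  adj : Adj α β
  crit : IsCriticalPair 2 α β
  crit' : IsCriticalPair 2 β α
  one : bd = 1

theorem Edge.symm {α β : V} (e : Edge α β) : Edge β α := ⟨e.adj.symm, e.crit', e.crit, e.one⟩

theorem Edge.exists_z (h : Hyp M₁ M₂) {α β : V} (e : Edge α β) :
    ∃ z ∈ vertexZ 2 α, z ∈ edgeStabilizer β α ∧ z ∈ vertexQ 2 α ∧ z ∉ vertexQ 2 β := by
  obtain ⟨z, hz, hzQ⟩ := SetLike.not_le_iff_exists.1 (crit_not_le h e.crit)
  exact ⟨z, hz, edge_comm α β ▸ Q_le_edge h e.adj (vertexZ_facts h hz).1, (vertexZ_facts h hz).1, hzQ⟩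

theorem Edge.decomp (h : Hyp M₁ M₂) {α β : V} (e : Edge α β) {q : X} (hq : q ∈ vertexQ 2 α) :
    ∃ z ∈ vertexZ 2 α, ∃ d, d ∈ vertexQ 2 α ∧ d ∈ vertexQ 2 β ∧ q = z * d := by
  obtain ⟨z, hz, hzT, hzα, hzQ⟩ := e.exists_z h
  rcases mem_or_mul_mem h e.adj.symm hzT hzQ (edge_comm α β ▸ Q_le_edge h e.adj hq) with hd | hd
  · exact ⟨1, Subgroup.one_mem _, q, hq, hd, (one_mul q).symm⟩
  · exact ⟨z, hz, z⁻¹ * q, Subgroup.mul_mem _ (Subgroup.inv_mem _ hzα) hq, hd, by group⟩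

theorem Edge.commutator_le (h : Hyp M₁ M₂) {α β : V} (e : Edge α β) :
    ⁅vertexQ 2 α, vertexQ 2 α⁆ ≤ ⁅vertexQ 2 β, vertexQ 2 β⁆ := by
  refine Subgroup.commutator_le.2 fun q hq q' hq' => ?_
  obtain ⟨z, hz, d, hdα, hdβ, rfl⟩ := e.decomp h hq
  obtain ⟨z', hz', d', hd'α, hd'β, rfl⟩ := e.decomp h hq'
  obtain ⟨-, hzc, -⟩ := vertexZ_facts h hz
  obtain ⟨hz'Q, hz'c, -⟩ := vertexZ_facts h hz'
  rw [commutatorElement_def, element_comm (hzc d hdα).symm (hzc z' hz'Q).symm (hzc d' hd'α).symm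
    (hz'c d hdα).symm (hz'c d' hd'α).symm, ← commutatorElement_def]
  exact Subgroup.commutator_mem_commutator hdβ hd'β

theorem Edge.abelian (h : Hyp M₁ M₂) {α β : V} (e : Edge α β) {x y : X}
    (hx : x ∈ vertexQ 2 α) (hy : y ∈ vertexQ 2 α) : x * y = y * x := by
  have heq := le_antisymm (e.commutator_le h) (e.symm.commutator_le h)
  have hn : ∀ δ : V, St δ ≤ Subgroup.normalizer ((⁅vertexQ 2 δ, vertexQ 2 δ⁆ : Subgroup X) : Set X) :=
    fun δ g hg => Subgroup.mem_normalizer_iff_map_conj_eq.2 (by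
      have hq := map_conj_eq (le_normalizer_pCoreOf 2 (St δ) hg)
      exact (Subgroup.map_commutator _ _ _).trans (congrArg₂ (⁅·, ·⁆) hq hq))
  have hb : ⁅vertexQ 2 α, vertexQ 2 α⁆ = ⊥ := eq_bot_of_normal h e.adj
    ((Subgroup.commutator_le.2 fun a ha b hb => Subgroup.mul_mem _ (Subgroup.mul_mem _
      (Subgroup.mul_mem _ ha hb) (Subgroup.inv_mem _ ha)) (Subgroup.inv_mem _ hb)).trans
      (Q_le_edge h e.adj)) (hn α) (heq ▸ hn β)
  have := Subgroup.commutator_mem_commutator hx hy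
  rw [hb, Subgroup.mem_bot, commutatorElement_eq_one_iff_mul_comm] at this
  exact this

/-- The squares of `Q_α ∩ Q_β`. -/
def sqD (α β : V) : Subgroup X :=
  Subgroup.closure {x : X | ∃ d, d ∈ vertexQ 2 α ∧ d ∈ vertexQ 2 β ∧ d * d = x}

theorem Edge.sqD_normal (h : Hyp M₁ M₂) {α β : V} (e : Edge α β) :
    St α ≤ Subgroup.normalizer (sqD α β : Set X) := by
  intro g hg
  have hle : sqD α β ≤ vertexQ 2 α := by
    refine (Subgroup.closure_le _).2 ?_
    rintro _ ⟨d, hd, -, rfl⟩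
    exact Subgroup.mul_mem _ hd hd
  haveI := h.finite_le (hle.trans (pCoreOf_le 2 _))
  refine mem_normalizer_of_le ?_
  rw [sqD, MonoidHom.map_closure, Subgroup.closure_le]
  rintro _ ⟨_, ⟨d, hd, -, rfl⟩, rfl⟩
  obtain ⟨z, hz, d', hd'α, hd'β, heq⟩ := e.decomp h (conj_mem_vertexQ_self hg hd)
  refine Subgroup.subset_closure ⟨d', hd'α, hd'β, ?_⟩
  obtain ⟨-, hzc, hz2⟩ := vertexZ_facts h hz
  calc d' * d' = (z * z) * (d' * d') := by rw [hz2, one_mul]
    _ = z * (z * d') * d' := by group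
    _ = z * (d' * z) * d' := by rw [hzc d' hd'α]
    _ = (z * d') * (z * d') := by group
    _ = (MulAut.conj g).toMonoidHom (d * d) := by rw [← heq]; simp [mul_assoc]

theorem Edge.sq_one (h : Hyp M₁ M₂) {α β : V} (e : Edge α β) {q : X}
    (hq : q ∈ vertexQ 2 α) : q * q = 1 := by
  obtain ⟨z, hz, d, hdα, hdβ, rfl⟩ := e.decomp h hq
  have hsymm : sqD α β = sqD β α := by
    simp only [sqD]; congr 1; ext x; constructor <;>
      exact fun ⟨d, h1, h2, h3⟩ => ⟨d, h2, h1, h3⟩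
  have hb : sqD α β = ⊥ := eq_bot_of_normal h e.adj ((Subgroup.closure_le _).2 (by
    rintro _ ⟨d, hd, -, rfl⟩
    exact Q_le_edge h e.adj (Subgroup.mul_mem _ hd hd))) (e.sqD_normal h)
    (hsymm ▸ e.symm.sqD_normal h)
  have hdd : d * d = 1 := by
    rw [← Subgroup.mem_bot, ← hb]
    exact Subgroup.subset_closure ⟨d, hdα, hdβ, rfl⟩
  obtain ⟨-, hzc, hz2⟩ := vertexZ_facts h hz
  calc z * d * (z * d) = z * (d * z) * d := by group
    _ = (z * z) * (d * d) := by rw [hzc d hdα]; group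
    _ = 1 := by rw [hz2, hdd, one_mul]

theorem Edge.commute_D (h : Hyp M₁ M₂) {α β : V} (e : Edge α β) {d : X}
    (hdα : d ∈ vertexQ 2 α) (hdβ : d ∈ vertexQ 2 β) :
    ∀ t ∈ edgeStabilizer α β, t * d = d * t := by
  obtain ⟨z, hz, hzT, -, hzQ⟩ := e.symm.exists_z h
  exact commute_edge h e.adj hzT hzQ (fun q hq => e.abelian h hq hdα)
    ((vertexZ_facts h hz).2.1 d hdβ).symm

theorem Edge.mem_D_of_central (h : Hyp M₁ M₂) {α β : V} (e : Edge α β) {x : X}
    (hx : x ∈ vertexQ 2 α) (hc : ∀ t ∈ edgeStabilizer α β, t * x = x * t) : x ∈ vertexQ 2 β := by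
  refine mem_Q_of_commute h (Q_le_edge h e.adj hx).2 fun z hz => ?_
  exact (hc z (edge_comm β α ▸ Q_le_edge h e.adj.symm (vertexZ_facts h hz).1)).symm

/-- The centre of the stabilizer of `α` inside `Q_α ∩ Q_β`. -/
def centD (α β : V) : Subgroup X :=
  vertexQ 2 α ⊓ vertexQ 2 β ⊓ Subgroup.centralizer (St α : Set X)

theorem Edge.card_facts (h : Hyp M₁ M₂) {α β : V} (e : Edge α β) :
    Nat.card ↥(vertexQ 2 α) = 2 * Nat.card ↥(vertexQ 2 α ⊓ vertexQ 2 β) ∧
      Nat.card ↥(vertexQ 2 α ⊓ vertexQ 2 β) = 2 * Nat.card ↥(centD α β) ∧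
      Nat.card ↥(centD α β) ≤ 2 := by
  haveI := h.finite_le (pCoreOf_le 2 (St α))
  haveI : Finite ↥(vertexQ 2 α ⊓ vertexQ 2 β) :=
    h.finite_le (inf_le_left.trans (pCoreOf_le 2 (St α)))
  obtain ⟨z, hz, hzT, hzα, hzQ⟩ := e.exists_z h
  have hiz : z⁻¹ = z := inv_eq_of_mul_eq_one_right (e.sq_one h hzα)
  have step : ∀ x ∈ vertexQ 2 α, x ∉ vertexQ 2 β → ∀ y ∈ vertexQ 2 α, y ∉ vertexQ 2 β →
      x * y ∈ vertexQ 2 β := by
    intro x hx hxQ y hy hyQ
    rcases mem_or_mul_mem h e.adj.symm (edge_comm α β ▸ Q_le_edge h e.adj hx) hxQ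
      (edge_comm α β ▸ Q_le_edge h e.adj hy) with hd | hd
    · exact absurd hd hyQ
    · rwa [inv_eq_of_mul_eq_one_right (e.sq_one h hx)] at hd
  refine ⟨card_eq_two_mul inf_le_left hzα (fun hm => hzQ hm.2) (fun x hx hxn =>
    ⟨Subgroup.mul_mem _ hx hzα, step x hx (fun hm => hxn ⟨hx, hm⟩) z hzα hzQ⟩), ?_, ?_⟩
  · obtain ⟨-, -, -, x, hxT, hxc, hx2, g, hg, hne⟩ := h.edge e.adj
    have hxα := (vertexZ_facts h (mem_vertexZ_of_central h e.adj hxT hxc hx2)).1
    have hxD : x ∈ vertexQ 2 α ⊓ vertexQ 2 β := ⟨hxα, e.mem_D_of_central h hxα hxc⟩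
    have hxn : x ∉ centD α β := fun hm =>
      hne (Subgroup.mem_centralizer_iff.1 hm.2 g hg)
    refine card_eq_two_mul inf_le_left hxD hxn fun y hy hyn => ⟨Subgroup.mul_mem _ hy hxD, ?_⟩
    obtain ⟨ν, -, hν, -, hνne, -, -⟩ := exists_other h e.adj
    obtain ⟨k, hk, hkν⟩ := exists_stabilizer_transitive hν e.adj
    have hnot : ∀ w ∈ vertexQ 2 α ⊓ vertexQ 2 β, w ∉ centD α β →
        k * w * k⁻¹ ∉ vertexQ 2 β := by
      intro w hw hwn hmem
      refine hwn ⟨hw, Subgroup.mem_centralizer_iff.2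
        (central_of_edges h e.adj hν hνne.symm (e.commute_D h hw.1 hw.2) fun t ht => ?_)⟩
      have hkT : k * t * k⁻¹ ∈ edgeStabilizer α β := by
        have : k * t * k⁻¹ ∈ (edgeStabilizer α ν).map (MulAut.conj k).toMonoidHom := ⟨t, ht, rfl⟩
        rwa [← edgeStabilizer_smul, MulAction.mem_stabilizer_iff.1 hk, hkν] at this
      have := e.commute_D h (conj_mem_vertexQ_self hk hw.1) hmem _ hkT
      calc t * w = k⁻¹ * (k * t * k⁻¹ * (k * w * k⁻¹)) * k := by group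
        _ = k⁻¹ * (k * w * k⁻¹ * (k * t * k⁻¹)) * k := by rw [this]
        _ = w * t := by group
    have := step _ (conj_mem_vertexQ_self hk hy.1) (hnot y hy hyn)
      _ (conj_mem_vertexQ_self hk hxD.1) (hnot x hxD hxn)
    rw [show k * y * k⁻¹ * (k * x * k⁻¹) = k * (y * x) * k⁻¹ by group] at this
    by_contra hcon
    exact hnot _ (Subgroup.mul_mem _ hy hxD) (fun hm => hcon hm.2) this
  · by_contra hgt
    haveI : Finite ↥(centD α β) :=
      h.finite_le ((inf_le_left.trans inf_le_left).trans (pCoreOf_le 2 (St α)))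
    obtain ⟨⟨c, hc⟩, hc1⟩ : ∃ c : ↥(centD α β), c ≠ 1 := by
      haveI : Nontrivial ↥(centD α β) := Finite.one_lt_card_iff_nontrivial.1 (by omega)
      exact exists_ne 1
    refine hgt ?_
    have hsub : ∀ w ∈ centD α β, w = 1 ∨ w = c := by
      intro w hw
      obtain ⟨-, -, -, x, hxT, hxc, hx2, g, hg, hne⟩ := h.edge e.adj.symm
      have hxβ := (vertexZ_facts h (mem_vertexZ_of_central h e.adj.symm hxT hxc hx2)).1
      have key : ∀ u ∈ centD α β, u ∈ centD β α → u = 1 := fun u hu hu' =>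
        eq_one_of_central h e.adj (Q_le_edge h e.adj hu.1.1)
          (fun t ht => Subgroup.mem_centralizer_iff.1 hu.2 t ht)
          (fun t ht => Subgroup.mem_centralizer_iff.1 hu'.2 t ht)
      by_contra hcon
      push Not at hcon
      obtain ⟨ν, -, hν, -, hνne, -, -⟩ := exists_other h e.adj.symm
      obtain ⟨k, hk, hkν⟩ := exists_stabilizer_transitive hν e.adj.symm
      have hout : ∀ u ∈ centD α β, u ≠ 1 → k * u * k⁻¹ ∉ vertexQ 2 α := by
        intro u hu hu1 hmem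
        refine hu1 (key u hu ⟨⟨hu.1.2, hu.1.1⟩, Subgroup.mem_centralizer_iff.2
          (central_of_edges h e.adj.symm hν hνne.symm (e.symm.commute_D h hu.1.2 hu.1.1)
            fun t ht => ?_)⟩)
        have hkT : k * t * k⁻¹ ∈ edgeStabilizer β α := by
          have : k * t * k⁻¹ ∈ (edgeStabilizer β ν).map (MulAut.conj k).toMonoidHom := ⟨t, ht, rfl⟩
          rwa [← edgeStabilizer_smul, MulAction.mem_stabilizer_iff.1 hk, hkν] at this
        have := e.symm.commute_D h (conj_mem_vertexQ_self hk hu.1.2) hmem _ hkT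
        calc t * u = k⁻¹ * (k * t * k⁻¹ * (k * u * k⁻¹)) * k := by group
          _ = k⁻¹ * (k * u * k⁻¹ * (k * t * k⁻¹)) * k := by rw [this]
          _ = u * t := by group
      have hc1' : c ≠ 1 := fun h' => hc1 (Subtype.ext h')
      have hwc : w * c ≠ 1 := fun h' => hcon.2 (by
        rw [mul_eq_one_iff_eq_inv.1 h', inv_eq_of_mul_eq_one_right (e.sq_one h hc.1.1)])
      refine hout _ (Subgroup.mul_mem _ hw hc) hwc ?_
      rcases mem_or_mul_mem h e.adj (edge_comm β α ▸ Q_le_edge h e.adj.symm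
          (conj_mem_vertexQ_self hk hw.1.2)) (hout w hw hcon.1)
        (edge_comm β α ▸ Q_le_edge h e.adj.symm (conj_mem_vertexQ_self hk hc.1.2)) with hd | hd
      · exact absurd hd (hout c hc hc1')
      · rw [inv_eq_of_mul_eq_one_right (e.symm.sq_one h (conj_mem_vertexQ_self hk hw.1.2))] at hd
        rwa [show k * w * k⁻¹ * (k * c * k⁻¹) = k * (w * c) * k⁻¹ by group] at hd
    have : (centD α β : Set X) ⊆ {1, c} := fun w hw => by simpa using hsub w hw
    have h2 := Set.ncard_le_ncard this (Set.toFinite _)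
    rw [← Nat.card_coe_set_eq] at h2
    exact h2.trans (by rw [Set.ncard_pair (show (1 : X) ≠ c from fun h' => hc1 (Subtype.ext h'.symm))])

theorem Edge.card_cent_eq (h : Hyp M₁ M₂) {α β : V} (e : Edge α β) :
    Nat.card ↥(centD α β) = Nat.card ↥(centD β α) := by
  have h1 := (e.card_facts h).2.1
  have h2 := (e.symm.card_facts h).2.1
  rw [inf_comm] at h2
  omega

theorem Edge.cards (h : Hyp M₁ M₂) {α β : V} (e : Edge α β) :
    Nat.card ↥(vertexQ 2 α) = 4 * Nat.card ↥(centD α β) ∧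
      Nat.card ↥(St α) = 24 * Nat.card ↥(centD α β) := by
  obtain ⟨h1, h2, -⟩ := e.card_facts h
  obtain ⟨-, hc, hq, -⟩ := h.edge e.adj
  change Nat.card ↥(edgeStabilizer α β) = 2 * Nat.card ↥(vertexQ 2 α) at hq
  constructor <;> omega

theorem Edge.finish (h : Hyp M₁ M₂) {α β : V} (e : Edge α β) :
    (Nat.card ↥(centD α β) = 1 → Nonempty (↥(St α) ≃* Equiv.Perm (Fin 4))) ∧
    (Nat.card ↥(centD α β) = 2 →
      Nonempty (↥(St α) ≃* Multiplicative (ZMod 2) × Equiv.Perm (Fin 4))) := by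
  haveI := h.finite α
  obtain ⟨hQ, hP⟩ := e.cards h
  obtain ⟨hQ2, -, hC2le⟩ := e.card_facts h
  have hQle : vertexQ 2 α ≤ St α := pCoreOf_le 2 _
  have hQn : ((vertexQ 2 α).subgroupOf (St α)).Normal :=
    (Subgroup.normal_subgroupOf_iff_le_normalizer hQle).2 (le_normalizer_pCoreOf 2 _)
  have hcent : Subgroup.centralizer (((vertexQ 2 α).subgroupOf (St α) : Subgroup ↥(St α)) :
      Set ↥(St α)) ≤ (vertexQ 2 α).subgroupOf (St α) := by
    intro x hx
    rw [Subgroup.mem_subgroupOf]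
    exact mem_Q_of_commute h x.2 fun z hz => (congrArg Subtype.val
      (Subgroup.mem_centralizer_iff.1 hx ⟨z, hQle (vertexZ_facts h hz).1⟩
        (vertexZ_facts h hz).1)).symm
  refine ⟨fun h1 => ?_, fun h2 => ?_⟩
  · rw [h1, mul_one] at hQ hP
    exact FgsC.DihPair.equiv_perm_four hP _
      (by rw [CfsgLib.Base.card_subgroupOf hQle, hQ]) hcent
  rw [h2] at hQ hP
  have hCle : centD α β ≤ St α := (inf_le_left.trans inf_le_left).trans hQle
  obtain ⟨z, hz, hzT, hzα, hzQ⟩ := e.exists_z h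
  obtain ⟨z', hz', hz'T, hz'β, hz'Q⟩ := e.symm.exists_z h
  obtain ⟨hr1, hra, hrb, -, -⟩ := r_facts h e.crit hz hzQ hz' hz'Q
  set r := z * z' * (z * z') with hr
  have hrα := (vertexZ_facts h hra).1
  have hrβ := (vertexZ_facts h hrb).1
  have hr2 := e.sq_one h hrα
  have iz : z⁻¹ = z := inv_eq_of_mul_eq_one_right (e.sq_one h hzα)
  have iz' : z'⁻¹ = z' := inv_eq_of_mul_eq_one_right (e.symm.sq_one h hz'β)
  -- the commutators of the edge with `Q_α` lie in `⟨r⟩`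
  have hcomm : ∀ t ∈ edgeStabilizer α β, ∀ y ∈ vertexQ 2 α,
      t * y * t⁻¹ * y⁻¹ ∈ Subgroup.zpowers r := by
    have key : ∀ y ∈ vertexQ 2 α, z' * y * z'⁻¹ * y⁻¹ ∈ Subgroup.zpowers r := by
      intro y hy
      rcases mem_or_mul_mem h e.adj.symm hzT hzQ
        (edge_comm α β ▸ Q_le_edge h e.adj hy) with hd | hd
      · rw [e.commute_D h hy hd z' hz'T]
        simp
      · rw [show y = z * (z⁻¹ * y) by group]
        set d := z⁻¹ * y with hdd
        have hdα : d ∈ vertexQ 2 α := Subgroup.mul_mem _ (Subgroup.inv_mem _ hzα) hy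
        have c1 : Commute z' d := e.commute_D h hdα hd z' hz'T
        have e1 : z' * (z * d) * z'⁻¹ * (z * d)⁻¹ = r := by
          calc z' * (z * d) * z'⁻¹ * (z * d)⁻¹ = z' * z * (d * z'⁻¹ * d⁻¹) * z⁻¹ := by group
            _ = z' * z * z'⁻¹ * z⁻¹ := by
              rw [show Commute d z'⁻¹ from c1.symm.inv_right, mul_inv_cancel_right]
            _ = (z * z' * (z * z'))⁻¹ := by simp only [mul_inv_rev, iz, iz', mul_assoc]
            _ = r := inv_eq_of_mul_eq_one_right hr2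
        rw [e1]
        exact Subgroup.mem_zpowers r
    intro t ht y hy
    rcases mem_or_mul_mem h e.adj hz'T hz'Q ht with htQ | htQ
    · rw [e.abelian h htQ hy]
      simp
    · have := key y hy
      rwa [show t * y * t⁻¹ * y⁻¹ = z' * y * z'⁻¹ * y⁻¹ by
        calc t * y * t⁻¹ * y⁻¹ = z' * (z'⁻¹ * t * y) * t⁻¹ * y⁻¹ := by group
          _ = z' * (y * (z'⁻¹ * t)) * t⁻¹ * y⁻¹ := by rw [e.abelian h htQ hy]
          _ = z' * y * z'⁻¹ * y⁻¹ := by group]
  have hrC : r ∉ centD α β := by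
    intro hrc
    obtain ⟨-, -, -, x, hxT, hxc, hx2, g, hg, hne⟩ := h.edge e.adj
    have hxα := (vertexZ_facts h (mem_vertexZ_of_central h e.adj hxT hxc hx2)).1
    have hxβ := e.mem_D_of_central h hxα hxc
    obtain ⟨ν, -, hν, -, hνne, -, -⟩ := exists_other h e.adj
    obtain ⟨k, hk, hkν⟩ := exists_stabilizer_transitive e.adj hν
    set D := vertexQ 2 α ⊓ vertexQ 2 β with hD
    haveI : Finite ↥D := h.finite_le (inf_le_left.trans hQle)
    have hT : ∀ t ∈ edgeStabilizer α β, t ∈ Subgroup.normalizer (D : Set X) := fun t ht =>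
      mem_normalizer_of_le (by
        rintro _ ⟨w, hw, rfl⟩
        show t * w * t⁻¹ ∈ D
        rw [e.commute_D h hw.1 hw.2 t ht, mul_inv_cancel_right]
        exact hw)
    have hS : St α ≤ Subgroup.normalizer (D : Set X) := by
      rw [← edge_sup_edge h e.adj hν hνne.symm]
      refine sup_le hT fun s hs => ?_
      have hs' : k⁻¹ * s * k ∈ edgeStabilizer α β := by
        have : s ∈ (edgeStabilizer α β).map (MulAut.conj k).toMonoidHom := by
          rwa [← edgeStabilizer_smul, MulAction.mem_stabilizer_iff.1 hk, hkν]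
        obtain ⟨u, hu, rfl⟩ := this
        simpa [mul_assoc] using hu
      refine mem_normalizer_of_le ?_
      rintro _ ⟨w, hw, rfl⟩
      show s * w * s⁻¹ ∈ D
      have hy : k⁻¹ * w * k ∈ vertexQ 2 α := by
        simpa using conj_mem_vertexQ_self ((St α).inv_mem hk) hw.1
      have hcm : (k⁻¹ * s * k) * (k⁻¹ * w * k) * (k⁻¹ * s * k)⁻¹ * (k⁻¹ * w * k)⁻¹ ∈ centD α β :=
        (Subgroup.zpowers_le.2 hrc) (hcomm _ hs' _ hy)
      have hcen := Subgroup.mem_centralizer_iff.1 hcm.2 k hk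
      have e2 : s * w * s⁻¹ = ((k⁻¹ * s * k) * (k⁻¹ * w * k) * (k⁻¹ * s * k)⁻¹ *
          (k⁻¹ * w * k)⁻¹) * w := by
        calc s * w * s⁻¹ = k * ((k⁻¹ * s * k) * (k⁻¹ * w * k) * (k⁻¹ * s * k)⁻¹ *
              (k⁻¹ * w * k)⁻¹) * k⁻¹ * w := by group
          _ = _ := by rw [hcen]; group
      rw [e2]
      exact Subgroup.mul_mem _ hcm.1 hw
    refine hne (central_of_edges h e.adj hν hνne.symm (e.commute_D h hxα hxβ) (fun t ht => ?_) g hg)
    have ht' : k⁻¹ * t * k ∈ edgeStabilizer α β := by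
      have : t ∈ (edgeStabilizer α β).map (MulAut.conj k).toMonoidHom := by
        rwa [← edgeStabilizer_smul, MulAction.mem_stabilizer_iff.1 hk, hkν]
      obtain ⟨u, hu, rfl⟩ := this
      simpa [mul_assoc] using hu
    have hxk : k⁻¹ * x * k ∈ D := by
      have := (Subgroup.mem_normalizer_iff.1 (hS ((St α).inv_mem hk)) x).1 ⟨hxα, hxβ⟩
      simpa using this
    have := e.commute_D h hxk.1 hxk.2 _ ht'
    calc t * x = k * (k⁻¹ * t * k * (k⁻¹ * x * k)) * k⁻¹ := by group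
      _ = k * (k⁻¹ * x * k * (k⁻¹ * t * k)) * k⁻¹ := by rw [this]
      _ = x * t := by group
  refine equiv_prod_perm_four hP ((vertexQ 2 α).subgroupOf (St α))
    (by rw [CfsgLib.Base.card_subgroupOf hQle, hQ]) hcent ((centD α β).subgroupOf (St α)) ?_ ?_
    (by rw [CfsgLib.Base.card_subgroupOf hCle, h2]) ((edgeStabilizer α β).subgroupOf (St α)) ?_ ?_
    ((Subgroup.zpowers r).subgroupOf (St α)) ?_ ?_ ?_
  · intro c hc
    rw [Subgroup.mem_center_iff]
    intro g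
    exact Subtype.ext (Subgroup.mem_centralizer_iff.1 (Subgroup.mem_subgroupOf.1 hc).2 g g.2)
  · exact fun c hc => (Subgroup.mem_subgroupOf.1 hc).1.1
  · exact fun c hc => Q_le_edge h e.adj (Subgroup.mem_subgroupOf.1 hc).1.1
  · obtain ⟨-, hc, -, -⟩ := h.edge e.adj
    haveI := h.finite_le (inf_le_left : edgeStabilizer α β ≤ St α)
    have hmul := Subgroup.card_mul_index ((edgeStabilizer α β).subgroupOf (St α))
    rw [CfsgLib.Base.card_subgroupOf inf_le_left, hc, mul_comm 3] at hmul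
    exact Nat.eq_of_mul_eq_mul_left Nat.card_pos hmul
  · exact fun c hc => (Subgroup.zpowers_le.2 (Q_le_edge h e.adj hrα)) (Subgroup.mem_subgroupOf.1 hc)
  · rw [Subgroup.eq_bot_iff_forall]
    rintro x ⟨hx1, hx2⟩
    obtain ⟨j, hj⟩ := Subgroup.mem_zpowers_iff.1 (Subgroup.mem_subgroupOf.1 hx1)
    rcases Int.even_or_odd j with ⟨i, rfl⟩ | ⟨i, rfl⟩
    · refine Subtype.ext ?_
      rw [← hj, zpow_add, ← (Commute.refl r).mul_zpow, hr2, one_zpow]
      rfl
    · exfalso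
      rw [zpow_add, zpow_mul, zpow_two, hr2, one_zpow, one_mul, zpow_one] at hj
      exact hrC (hj ▸ Subgroup.mem_subgroupOf.1 hx2)
  · intro u hu
    rw [Subgroup.mem_subgroupOf] at hu ⊢
    rw [Subgroup.coe_mul]
    rcases mem_or_mul_mem h e.adj hz'T hz'Q hu with huQ | huQ
    · rw [e.sq_one h huQ]
      exact Subgroup.one_mem _
    · set q := z'⁻¹ * (u : X) with hq
      have hu' : (u : X) = z' * q := by rw [hq]; group
      have hq2 := e.sq_one h huQ
      have e1 : (u : X) * u = z' * q * z'⁻¹ * q⁻¹ := by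
        rw [hu', iz', inv_eq_of_mul_eq_one_right hq2]; group
      rw [e1]
      exact hcomm z' hz'T q huQ

theorem main (h : Hyp M₁ M₂) :
    (Nonempty (↥M₁ ≃* Equiv.Perm (Fin 4)) ∧ Nonempty (↥M₂ ≃* Equiv.Perm (Fin 4))) ∨
    (Nonempty (↥M₁ ≃* Multiplicative (ZMod 2) × Equiv.Perm (Fin 4)) ∧
      Nonempty (↥M₂ ≃* Multiplicative (ZMod 2) × Equiv.Perm (Fin 4))) := by
  have hb := bd_eq_one h
  set o₁ : V := Sum.inl ((1 : X) : X ⧸ M₁)
  set o₂ : V := Sum.inr ((1 : X) : X ⧸ M₂)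
  obtain ⟨α, α', hc⟩ := exists_crit h
  have hadj : Adj α α' := SimpleGraph.dist_eq_one_iff_adj.1 (hc.2.trans hb)
  obtain ⟨g, hg⟩ := exists_smul_of_adj hadj
  obtain ⟨hc1, hc2⟩ : IsCriticalPair 2 o₁ o₂ ∧ IsCriticalPair 2 o₂ o₁ := by
    rcases hg with ⟨rfl, rfl⟩ | ⟨rfl, rfl⟩
    · have := crit_smul h g⁻¹ hc
      rw [inv_smul_smul, inv_smul_smul] at this
      exact ⟨this, crit_symm h this⟩
    · have := crit_smul h g⁻¹ hc
      rw [inv_smul_smul, inv_smul_smul] at this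
      exact ⟨crit_symm h this, this⟩
  have e : Edge o₁ o₂ :=
    ⟨SimpleGraph.dist_eq_one_iff_adj.1 (hc1.2.trans hb), hc1, hc2, hb⟩
  haveI : Finite ↥(centD o₁ o₂) :=
    h.finite_le ((inf_le_left.trans inf_le_left).trans (pCoreOf_le 2 (St o₁)))
  have hpos : 0 < Nat.card ↥(centD o₁ o₂) := Nat.card_pos
  have hle := (e.card_facts h).2.2
  have heq := e.card_cent_eq h
  have t1 : ↥(St o₁) ≃* ↥M₁ := MulEquiv.subgroupCongr stabilizer_inl_one
  have t2 : ↥(St o₂) ≃* ↥M₂ := MulEquiv.subgroupCongr stabilizer_inr_one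
  rcases (show Nat.card ↥(centD o₁ o₂) = 1 ∨ Nat.card ↥(centD o₁ o₂) = 2 by omega) with h1 | h1
  · obtain ⟨f1⟩ := (e.finish h).1 h1
    obtain ⟨f2⟩ := (e.symm.finish h).1 (heq ▸ h1)
    exact Or.inl ⟨⟨t1.symm.trans f1⟩, ⟨t2.symm.trans f2⟩⟩
  · obtain ⟨f1⟩ := (e.finish h).2 h1
    obtain ⟨f2⟩ := (e.symm.finish h).2 (heq ▸ h1)
    exact Or.inr ⟨⟨t1.symm.trans f1⟩, ⟨t2.symm.trans f2⟩⟩

end CfsgLib.LocalEven.S3Amalgam
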