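import Mathlib
import Cfsg.Agent.Lib.LocalEven.AmalgamIter
import Cfsg.Agent.Lib.LocalEven.ReplaceRank
import Cfsg.Agent.Lib.Coprime.Action

/-!
Amalgams of characteristic two with both residues `S₃`: the edge and vertex stabilizers.
-/

set_option autoImplicit false
set_option linter.unusedSectionVars false

namespace CfsgLib.LocalEven.S3Amalgam

open Cfsg

variable {X : Type*} [Group X] {M₁ M₂ : Subgroup X}

/-- An amalgam of characteristic 2 with both residues of order six and a non-central `Ω₁(Z(T))`. -/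
structure Hyp (M₁ M₂ : Subgroup X) : Prop where
  pair : IsCharPAmalgamPair 2 M₁ M₂
  two : IsPGroup 2 ↥(M₁ ⊓ M₂)
  card₁ : Nat.card M₁ = 3 * Nat.card ↥(M₁ ⊓ M₂)
  card₂ : Nat.card M₂ = 3 * Nat.card ↥(M₁ ⊓ M₂)
  core₁ : Nat.card ↥(M₁ ⊓ M₂) = 2 * Nat.card ↥(pCoreOf 2 M₁)
  core₂ : Nat.card ↥(M₁ ⊓ M₂) = 2 * Nat.card ↥(pCoreOf 2 M₂)
  nc₁ : ∃ x ∈ M₁ ⊓ M₂, (∀ t ∈ M₁ ⊓ M₂, t * x = x * t) ∧ x * x = 1 ∧ ∃ g ∈ M₁, g * x ≠ x * g
  nc₂ : ∃ x ∈ M₁ ⊓ M₂, (∀ t ∈ M₁ ⊓ M₂, t * x = x * t) ∧ x * x = 1 ∧ ∃ g ∈ M₂, g * x ≠ x * g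

local notation "V" => CosetVertex M₁ M₂
local notation "Adj" => SimpleGraph.Adj (cosetGraph M₁ M₂)
local notation "St" => MulAction.stabilizer X

theorem Hyp.finite (h : Hyp M₁ M₂) (δ : V) : Finite (St δ) := finite_stabilizer h.pair δ

theorem Hyp.finite_le (h : Hyp M₁ M₂) {δ : V} {H : Subgroup X} (hle : H ≤ St δ) : Finite H :=
  haveI := h.finite δ
  Finite.of_injective _ (Subgroup.inclusion_injective hle)

/-- The facts about an edge. -/
theorem Hyp.edge (h : Hyp M₁ M₂) {δ μ : V} (hadj : Adj δ μ) :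
    IsPGroup 2 ↥(edgeStabilizer δ μ) ∧ Nat.card (St δ) = 3 * Nat.card ↥(edgeStabilizer δ μ) ∧
      Nat.card ↥(edgeStabilizer δ μ) = 2 * Nat.card ↥(vertexQ 2 δ) ∧
      ∃ x ∈ edgeStabilizer δ μ, (∀ t ∈ edgeStabilizer δ μ, t * x = x * t) ∧ x * x = 1 ∧
        ∃ g ∈ St δ, g * x ≠ x * g := by
  have key : ∀ (g : X) (a b : V) (A B : Subgroup X), St a = A → St b = B →
      IsPGroup 2 ↥(A ⊓ B) → Nat.card A = 3 * Nat.card ↥(A ⊓ B) →
      Nat.card ↥(A ⊓ B) = 2 * Nat.card ↥(pCoreOf 2 A) →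
      (∃ x ∈ A ⊓ B, (∀ t ∈ A ⊓ B, t * x = x * t) ∧ x * x = 1 ∧ ∃ k ∈ A, k * x ≠ x * k) →
      IsPGroup 2 ↥(edgeStabilizer (g • a) (g • b)) ∧
      Nat.card (St (g • a)) = 3 * Nat.card ↥(edgeStabilizer (g • a) (g • b)) ∧
      Nat.card ↥(edgeStabilizer (g • a) (g • b)) = 2 * Nat.card ↥(vertexQ 2 (g • a)) ∧
      ∃ x ∈ edgeStabilizer (g • a) (g • b), (∀ t ∈ edgeStabilizer (g • a) (g • b), t * x = x * t) ∧
        x * x = 1 ∧ ∃ k ∈ St (g • a), k * x ≠ x * k := by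
    intro g a b A B hA hB hp hc hcore hnc
    have hinj : Function.Injective (MulAut.conj g).toMonoidHom := (MulAut.conj g).injective
    rw [edgeStabilizer_smul, vertexQ, MulAction.stabilizer_smul_eq_stabilizer_map_conj,
      ← map_pCoreOf 2 _ hinj, edgeStabilizer, hA, hB]
    refine ⟨hp.map _, ?_, ?_, ?_⟩
    · rw [Subgroup.card_map_of_injective hinj, Subgroup.card_map_of_injective hinj, hc]
    · rw [Subgroup.card_map_of_injective hinj, Subgroup.card_map_of_injective hinj, hcore]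
    · obtain ⟨x, hx, hcomm, hsq, k, hk, hne⟩ := hnc
      refine ⟨_, ⟨x, hx, rfl⟩, ?_, ?_, _, ⟨k, hk, rfl⟩, ?_⟩
      · rintro _ ⟨t, ht, rfl⟩
        rw [← map_mul, ← map_mul, hcomm t ht]
      · rw [← map_mul, hsq, map_one]
      · rw [← map_mul, ← map_mul]
        exact fun e => hne (hinj e)
  obtain ⟨g, ⟨rfl, rfl⟩ | ⟨rfl, rfl⟩⟩ := exists_smul_of_adj hadj
  · exact key g _ _ _ _ stabilizer_inl_one stabilizer_inr_one h.two h.card₁ h.core₁ h.nc₁
  · refine key g _ _ _ _ stabilizer_inr_one stabilizer_inl_one ?_ ?_ ?_ ?_ <;> rw [inf_comm]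
    · exact h.two
    · exact h.card₂
    · exact h.core₂
    · exact h.nc₂

theorem Hyp.isPGroup_edge (h : Hyp M₁ M₂) {δ μ : V} (hadj : Adj δ μ) :
    IsPGroup 2 ↥(edgeStabilizer δ μ) := (h.edge hadj).1

theorem Q_le_edge (h : Hyp M₁ M₂) {δ μ : V} (hadj : Adj δ μ) :
    vertexQ 2 δ ≤ edgeStabilizer δ μ :=
  le_inf (pCoreOf_le 2 _) ((vertexQ_le_neighbourKernel h.pair δ).trans
    (inf_le_right.trans ((iInf_le _ μ).trans (iInf_le _ hadj))))

theorem edge_max (h : Hyp M₁ M₂) {δ μ : V} (hadj : Adj δ μ) {H : Subgroup X}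
    (h1 : edgeStabilizer δ μ ≤ H) (h2 : H ≤ St δ) : H = edgeStabilizer δ μ ∨ H = St δ := by
  haveI := h.finite δ
  haveI := h.finite_le h2
  haveI := h.finite_le (h1.trans h2)
  obtain ⟨-, hc, -, -⟩ := h.edge hadj
  obtain ⟨k, hk⟩ := Subgroup.card_dvd_of_le h1
  obtain ⟨m, hm⟩ := Subgroup.card_dvd_of_le h2
  have hpos : 0 < Nat.card ↥(edgeStabilizer δ μ) := Nat.card_pos
  have hkm : k * m = 3 := by
    rw [hm, hk] at hc
    have : Nat.card ↥(edgeStabilizer δ μ) * (k * m) = Nat.card ↥(edgeStabilizer δ μ) * 3 := by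
      rw [← mul_assoc, hc, mul_comm]
    exact Nat.eq_of_mul_eq_mul_left hpos this
  rcases (Nat.dvd_prime Nat.prime_three).1 (Dvd.intro m hkm) with hk1 | hk3
  · left
    exact (Subgroup.eq_of_le_of_card_ge h1 (by rw [hk, hk1, mul_one])).symm
  · right
    refine Subgroup.eq_of_le_of_card_ge h2 ?_
    have : m = 1 := by subst hk3; omega
    rw [hm, this, mul_one]

theorem Q_ne_edge (h : Hyp M₁ M₂) {δ μ : V} (hadj : Adj δ μ) :
    edgeStabilizer δ μ ≠ vertexQ 2 δ := by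
  intro e
  haveI := h.finite_le (pCoreOf_le 2 (St δ))
  obtain ⟨-, -, hq, -⟩ := h.edge hadj
  rw [e] at hq
  have : 0 < Nat.card ↥(vertexQ 2 δ) := Nat.card_pos
  omega

theorem not_normal_edge (h : Hyp M₁ M₂) {δ μ : V} (hadj : Adj δ μ) :
    ¬ St δ ≤ Subgroup.normalizer (edgeStabilizer δ μ : Set X) := fun hn =>
  Q_ne_edge h hadj (le_antisymm
    (le_pCoreOf inf_le_left hn (h.isPGroup_edge hadj)) (Q_le_edge h hadj))

theorem edge_ne (h : Hyp M₁ M₂) {δ μ ν : V} (hμ : Adj δ μ) (hν : Adj δ ν) (hne : μ ≠ ν) :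
    edgeStabilizer δ μ ≠ edgeStabilizer δ ν := by
  intro e
  obtain ⟨g, hg, hgm⟩ := exists_stabilizer_transitive hμ hν
  have hgd : g • δ = δ := hg
  have hmap : (edgeStabilizer δ μ).map (MulAut.conj g).toMonoidHom = edgeStabilizer δ μ := by
    rw [← edgeStabilizer_smul, hgd, hgm, e]
  have hgN : g ∈ St δ ⊓ Subgroup.normalizer (edgeStabilizer δ μ : Set X) :=
    ⟨hg, mem_normalizer_of_conj hmap⟩
  rcases edge_max h hμ (H := St δ ⊓ Subgroup.normalizer (edgeStabilizer δ μ : Set X))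
    (le_inf inf_le_left Subgroup.le_normalizer) inf_le_left with e' | e'
  · rw [e'] at hgN
    exact hne ((MulAction.mem_stabilizer_iff.1 hgN.2).symm.trans hgm)
  · exact not_normal_edge h hμ (e'.ge.trans inf_le_right)

theorem edge_not_le (h : Hyp M₁ M₂) {δ μ ν : V} (hμ : Adj δ μ) (hν : Adj δ ν) (hne : μ ≠ ν) :
    ¬ edgeStabilizer δ μ ≤ edgeStabilizer δ ν := fun hle => by
  rcases edge_max h hμ hle inf_le_left with e | e
  · exact edge_ne h hμ hν hne e.symm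
  · haveI := h.finite δ
    obtain ⟨-, hc, -, -⟩ := h.edge hν
    have hpos : 0 < Nat.card (St δ) := Nat.card_pos
    rw [e] at hc
    omega

theorem edge_sup (h : Hyp M₁ M₂) {δ μ : V} (hadj : Adj δ μ) {H : Subgroup X} (hH : H ≤ St δ)
    (hne : ¬ H ≤ edgeStabilizer δ μ) : edgeStabilizer δ μ ⊔ H = St δ :=
  (edge_max h hadj le_sup_left (sup_le inf_le_left hH)).resolve_left fun e =>
    hne (le_sup_right.trans e.le)

theorem edge_sup_edge (h : Hyp M₁ M₂) {δ μ ν : V} (hμ : Adj δ μ) (hν : Adj δ ν) (hne : μ ≠ ν) :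
    edgeStabilizer δ μ ⊔ edgeStabilizer δ ν = St δ :=
  edge_sup h hμ inf_le_left (edge_not_le h hν hμ hne.symm)

theorem ncard_neighbours (h : Hyp M₁ M₂) {δ μ : V} (hadj : Adj δ μ) :
    {ν : V | Adj δ ν}.ncard = 3 := by
  haveI := h.finite δ
  have horb : MulAction.orbit (St δ) μ = {ν : V | Adj δ ν} := by
    ext ν
    refine ⟨?_, fun hν => ?_⟩
    · rintro ⟨g, rfl⟩
      have := cosetGraph_adj_smul (g : X) hadj
      rwa [MulAction.mem_stabilizer_iff.1 g.2] at this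
    · obtain ⟨g, hg, hgm⟩ := exists_stabilizer_transitive hadj hν
      exact ⟨⟨g, hg⟩, hgm⟩
  rw [← horb]
  refine (MulAction.index_stabilizer (St δ) μ).symm.trans ?_
  have e : MulAction.stabilizer (St δ) μ = (edgeStabilizer δ μ).subgroupOf (St δ) := by
    ext g
    rw [Subgroup.mem_subgroupOf, edgeStabilizer, Subgroup.mem_inf]
    exact ⟨fun hg => ⟨g.2, hg⟩, fun hg => hg.2⟩
  rw [e]
  haveI := h.finite_le (inf_le_left : edgeStabilizer δ μ ≤ St δ)
  obtain ⟨-, hc, -, -⟩ := h.edge hadj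
  have hmul := Subgroup.card_mul_index ((edgeStabilizer δ μ).subgroupOf (St δ))
  rw [CfsgLib.Base.card_subgroupOf inf_le_left, hc, mul_comm 3] at hmul
  exact Nat.eq_of_mul_eq_mul_left Nat.card_pos hmul

theorem neighbour_cover (h : Hyp M₁ M₂) {δ a b c x : V} (ha : Adj δ a) (hb : Adj δ b)
    (hc : Adj δ c) (hx : Adj δ x) (hab : a ≠ b) (hac : a ≠ c) (hbc : b ≠ c) :
    x = a ∨ x = b ∨ x = c := by
  have hn := ncard_neighbours h ha
  have hfin : {ν : V | Adj δ ν}.Finite := Set.finite_of_ncard_ne_zero (by rw [hn]; decide)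
  have hsub : ({a, b, c} : Set V) ⊆ {ν : V | Adj δ ν} := by
    rintro y (rfl | rfl | rfl) <;> assumption
  have h3 : ({a, b, c} : Set V).ncard = 3 := by
    rw [Set.ncard_insert_of_notMem (by simp [hab, hac]), Set.ncard_pair hbc]
  have e := Set.eq_of_subset_of_ncard_le hsub (by rw [hn, h3]) hfin
  have : x ∈ ({a, b, c} : Set V) := by rw [e]; exact hx
  simpa using this

theorem exists_other (h : Hyp M₁ M₂) {δ μ : V} (hadj : Adj δ μ) :
    ∃ ν ρ : V, Adj δ ν ∧ Adj δ ρ ∧ ν ≠ μ ∧ ρ ≠ μ ∧ ν ≠ ρ := by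
  obtain ⟨a, b, c, hab, hac, hbc, e⟩ := Set.ncard_eq_three.1 (ncard_neighbours h hadj)
  have hm : μ ∈ ({a, b, c} : Set V) := by rw [← e]; exact hadj
  have ha : Adj δ a := by
    have : a ∈ {ν : V | Adj δ ν} := by rw [e]; simp
    exact this
  have hb : Adj δ b := by
    have : b ∈ {ν : V | Adj δ ν} := by rw [e]; simp
    exact this
  have hc : Adj δ c := by
    have : c ∈ {ν : V | Adj δ ν} := by rw [e]; simp
    exact this
  rcases hm with rfl | rfl | rfl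
  · exact ⟨b, c, hb, hc, hab.symm, hac.symm, hbc⟩
  · exact ⟨a, c, ha, hc, hab, hbc.symm, hac⟩
  · exact ⟨a, b, ha, hb, hac, hbc, hab⟩

theorem exists_swap (h : Hyp M₁ M₂) {δ μ ν ρ : V} (hμ : Adj δ μ) (hν : Adj δ ν) (hρ : Adj δ ρ)
    (h1 : μ ≠ ν) (h2 : μ ≠ ρ) : ∃ t ∈ edgeStabilizer δ μ, t • ν = ρ := by
  by_cases h3 : ν = ρ
  · exact ⟨1, Subgroup.one_mem _, by rw [one_smul, h3]⟩
  obtain ⟨t, ht, htn⟩ := SetLike.not_le_iff_exists.1 (edge_not_le h hμ hν h1)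
  refine ⟨t, ht, ?_⟩
  have htd : t • δ = δ := ht.1
  have htm : t • μ = μ := ht.2
  have hadj : Adj δ (t • ν) := by
    have := cosetGraph_adj_smul t hν
    rwa [htd] at this
  rcases neighbour_cover h hμ hν hρ hadj h1 h2 h3 with e | e | e
  · exact absurd (smul_left_cancel t (htm.trans e.symm)) h1
  · exact absurd ⟨ht.1, e⟩ htn
  · exact e

theorem neighbourKernel_le (h : Hyp M₁ M₂) (δ : V) : neighbourKernel δ ≤ vertexQ 2 δ := by
  obtain ⟨μ, hμ⟩ := exists_adj δ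
  have hle : neighbourKernel δ ≤ edgeStabilizer δ μ :=
    le_inf inf_le_left (inf_le_right.trans ((iInf_le _ μ).trans (iInf_le _ hμ)))
  refine le_pCoreOf inf_le_left (fun g hg => ?_) ((h.isPGroup_edge hμ).to_le hle)
  haveI : Finite ↥(neighbourKernel δ) := h.finite_le inf_le_left
  refine CfsgLib.LocalEven.mem_normalizer_of_conj
    (Subgroup.eq_of_le_of_card_ge (K := neighbourKernel δ) ?_ ?_)
  · rintro _ ⟨k, hk, rfl⟩
    refine Subgroup.mem_inf.2 ⟨(St δ).mul_mem ((St δ).mul_mem hg hk.1) ((St δ).inv_mem hg), ?_⟩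
    simp only [Subgroup.mem_iInf]
    intro ν hν
    have hν' : Adj δ (g⁻¹ • ν) := by
      have := cosetGraph_adj_smul g⁻¹ hν
      rwa [MulAction.mem_stabilizer_iff.1 ((St δ).inv_mem hg)] at this
    have hkν : ∀ ρ, Adj δ ρ → k ∈ St ρ := fun ρ hρ =>
      Subgroup.mem_iInf.1 (Subgroup.mem_iInf.1 (Subgroup.mem_inf.1 hk).2 ρ) hρ
    show (g * k * g⁻¹) • ν = ν
    rw [mul_smul, mul_smul, MulAction.mem_stabilizer_iff.1 (hkν _ hν'), smul_inv_smul]
  · rw [Subgroup.card_map_of_injective (f := (MulAut.conj g).toMonoidHom) (MulAut.conj g).injective]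

theorem mem_Q_of_fix_two (h : Hyp M₁ M₂) {δ μ ν : V} (hμ : Adj δ μ) (hν : Adj δ ν) (hne : μ ≠ ν)
    {x : X} (h1 : x ∈ edgeStabilizer δ μ) (h2 : x • ν = ν) : x ∈ vertexQ 2 δ := by
  refine neighbourKernel_le h δ (Subgroup.mem_inf.2 ⟨h1.1, ?_⟩)
  simp only [Subgroup.mem_iInf]
  intro ρ hρ
  show x • ρ = ρ
  have hxd : x • δ = δ := h1.1
  have hxm : x • μ = μ := h1.2
  by_cases e1 : ρ = μ
  · rw [e1]; exact hxm
  by_cases e2 : ρ = ν
  · rw [e2]; exact h2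
  have hadj : Adj δ (x • ρ) := by
    have := cosetGraph_adj_smul x hρ
    rwa [hxd] at this
  rcases neighbour_cover h hμ hν hρ hadj hne (Ne.symm e1) (Ne.symm e2) with e | e | e
  · exact absurd (smul_left_cancel x (e.trans hxm.symm)) e1
  · exact absurd (smul_left_cancel x (e.trans h2.symm)) e2
  · exact e

theorem eq_bot_of_normal (h : Hyp M₁ M₂) {δ μ : V} (hadj : Adj δ μ) {U : Subgroup X}
    (hU : U ≤ edgeStabilizer δ μ) (h1 : St δ ≤ Subgroup.normalizer (U : Set X))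
    (h2 : St μ ≤ Subgroup.normalizer (U : Set X)) : U = ⊥ := by
  refine eq_bot_of_transitive h.pair.1 hadj hU (fun ν ν' hν hν' => ?_) fun ν ν' hν hν' => ?_
  · obtain ⟨g, hg, e⟩ := exists_stabilizer_transitive hν hν'
    exact ⟨g, ⟨h1 hg, hg⟩, e⟩
  · obtain ⟨g, hg, e⟩ := exists_stabilizer_transitive hν hν'
    exact ⟨g, ⟨h2 hg, hg⟩, e⟩

theorem eq_one_of_central (h : Hyp M₁ M₂) {δ μ : V} (hadj : Adj δ μ) {x : X}
    (hx : x ∈ edgeStabilizer δ μ) (h1 : ∀ g ∈ St δ, g * x = x * g)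
    (h2 : ∀ g ∈ St μ, g * x = x * g) : x = 1 := by
  have key : ∀ H : Subgroup X, (∀ g ∈ H, g * x = x * g) →
      H ≤ Subgroup.normalizer (Subgroup.zpowers x : Set X) := by
    intro H hH g hg
    refine Subgroup.centralizer_le_normalizer _ (Subgroup.mem_centralizer_iff.2 ?_)
    rintro _ ⟨j, rfl⟩
    exact ((show Commute x g from (hH g hg).symm).zpow_left j).eq
  exact Subgroup.zpowers_eq_bot.1
    (eq_bot_of_normal h hadj (Subgroup.zpowers_le.2 hx) (key _ h1) (key _ h2))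

theorem vertexZ_facts (h : Hyp M₁ M₂) {δ : V} {x : X} (hx : x ∈ vertexZ 2 δ) :
    x ∈ vertexQ 2 δ ∧ (∀ q ∈ vertexQ 2 δ, q * x = x * q) ∧ x * x = 1 := by
  haveI := h.finite δ
  have hle : vertexZ 2 δ ≤ omegaOne 2 (vertexQ 2 δ ⊓ Subgroup.centralizer (vertexQ 2 δ : Set X)) :=
    iSup_le fun S => omegaCenter_sylow_le (charP_stabilizer h.pair δ) S
  have hx' := hle hx
  rw [omegaOne] at hx'
  clear hx
  induction hx' using Subgroup.closure_induction with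
  | mem y hy => exact ⟨hy.1.1, fun q hq => Subgroup.mem_centralizer_iff.1 hy.1.2 q hq,
      by rw [← pow_two]; exact hy.2⟩
  | one => exact ⟨Subgroup.one_mem _, fun q _ => by simp, by simp⟩
  | mul y z _ _ hy hz =>
    obtain ⟨hy1, hy2, hy3⟩ := hy
    obtain ⟨hz1, hz2, hz3⟩ := hz
    refine ⟨Subgroup.mul_mem _ hy1 hz1, fun q hq => ?_, ?_⟩
    · rw [← mul_assoc, hy2 q hq, mul_assoc, hz2 q hq, mul_assoc]
    · calc y * z * (y * z) = y * (z * y) * z := by group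
        _ = (y * y) * (z * z) := by rw [← hz2 y hy1]; group
        _ = 1 := by rw [hy3, hz3, mul_one]
  | inv y _ hy =>
    obtain ⟨hy1, hy2, hy3⟩ := hy
    refine ⟨Subgroup.inv_mem _ hy1, fun q hq => ?_, ?_⟩
    · exact ((show Commute q y from hy2 q hq).inv_right).eq
    · rw [← mul_inv_rev, hy3, inv_one]

theorem conj_mem_vertexZ (h : Hyp M₁ M₂) (g : X) {δ : V} {x : X} (hx : x ∈ vertexZ 2 δ) :
    g * x * g⁻¹ ∈ vertexZ 2 (g • δ) :=
  Iter.map_vertexZ_le h.pair g δ ⟨x, hx, rfl⟩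

theorem conj_mem_vertexZ_self (h : Hyp M₁ M₂) {g : X} {δ : V} (hg : g ∈ St δ) {x : X}
    (hx : x ∈ vertexZ 2 δ) : g * x * g⁻¹ ∈ vertexZ 2 δ := by
  have := conj_mem_vertexZ h g hx
  rwa [MulAction.mem_stabilizer_iff.1 hg] at this

theorem conj_mem_vertexQ_self {g : X} {δ : V} (hg : g ∈ St δ) {x : X}
    (hx : x ∈ vertexQ 2 δ) : g * x * g⁻¹ ∈ vertexQ 2 δ :=
  (Subgroup.mem_normalizer_iff.1 (le_normalizer_pCoreOf 2 _ hg) x).1 hx

theorem conj_mem_vertexQ (g : X) {δ : V} {x : X} (hx : x ∈ vertexQ 2 δ) :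
    g * x * g⁻¹ ∈ vertexQ 2 (g • δ) := by
  rw [vertexQ, MulAction.stabilizer_smul_eq_stabilizer_map_conj,
    ← map_pCoreOf 2 _ (MulAut.conj g).injective]
  exact ⟨x, hx, rfl⟩

/-- Elements of the centre of an edge stabilizer of order at most two lie in `Z`. -/
theorem mem_vertexZ_of_central (h : Hyp M₁ M₂) {δ μ : V} (hadj : Adj δ μ) {x : X}
    (hx : x ∈ edgeStabilizer δ μ) (hc : ∀ t ∈ edgeStabilizer δ μ, t * x = x * t)
    (hsq : x * x = 1) : x ∈ vertexZ 2 δ := by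
  haveI := h.finite δ
  have hmax : IsMaxPSub 2 (edgeStabilizer δ μ) (St δ) := by
    refine (maxPSub_edge h.pair hadj ⟨le_rfl, h.isPGroup_edge hadj, fun Q hQ _ => ?_⟩).1
    haveI := h.finite_le (inf_le_left : edgeStabilizer δ μ ≤ St δ)
    exact Subgroup.card_le_of_le hQ
  exact hmax.omegaCenter_le_closure
    (Subgroup.subset_closure ⟨⟨hx, Subgroup.mem_centralizer_iff.2 hc⟩, by rw [pow_two, hsq]⟩)

theorem mem_Q_of_commute (h : Hyp M₁ M₂) {δ : V} {x : X} (hx : x ∈ St δ)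
    (hc : ∀ z ∈ vertexZ 2 δ, x * z = z * x) : x ∈ vertexQ 2 δ := by
  set C := St δ ⊓ Subgroup.centralizer (vertexZ 2 δ : Set X) with hC
  have hxC : x ∈ C := ⟨hx, Subgroup.mem_centralizer_iff.2 fun z hz => (hc z hz).symm⟩
  obtain ⟨μ, hμ⟩ := exists_adj δ
  have hCn : St δ ≤ Subgroup.normalizer (C : Set X) := by
    exact CfsgLib.Coprime.le_normalizer_inf_inf Subgroup.le_normalizer
      ((stabilizer_le_normalizer_vertexZ δ).trans (normalizer_le_normalizer_centralizer _))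
  by_cases hle : C ≤ edgeStabilizer δ μ
  · exact le_pCoreOf inf_le_left hCn ((h.isPGroup_edge hμ).to_le hle) hxC
  exfalso
  obtain ⟨-, -, -, e, he, hec, hsq, g, hg, hne⟩ := h.edge hμ
  have hez := mem_vertexZ_of_central h hμ he hec hsq
  have hle2 : edgeStabilizer δ μ ⊔ C ≤ Subgroup.centralizer {e} := by
    refine sup_le (fun t ht => ?_) (fun c hc' => ?_)
    · rw [Subgroup.mem_centralizer_iff]
      rintro _ rfl
      exact (hec t ht).symm
    · rw [Subgroup.mem_centralizer_iff]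
      rintro _ rfl
      exact Subgroup.mem_centralizer_iff.1 hc'.2 _ hez
  rw [edge_sup h hμ inf_le_left hle] at hle2
  exact hne (Subgroup.mem_centralizer_iff.1 (hle2 hg) e rfl).symm

theorem mem_or_mul_mem (h : Hyp M₁ M₂) {δ μ : V} (hadj : Adj δ μ) {s t : X}
    (hs : s ∈ edgeStabilizer δ μ) (hsQ : s ∉ vertexQ 2 δ) (ht : t ∈ edgeStabilizer δ μ) :
    t ∈ vertexQ 2 δ ∨ s⁻¹ * t ∈ vertexQ 2 δ := by
  haveI := h.finite_le (inf_le_left : edgeStabilizer δ μ ≤ St δ)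
  obtain ⟨-, -, hq, -⟩ := h.edge hadj
  have hidx : ((vertexQ 2 δ).subgroupOf (edgeStabilizer δ μ)).index = 2 := by
    have hmul := Subgroup.card_mul_index ((vertexQ 2 δ).subgroupOf (edgeStabilizer δ μ))
    rw [CfsgLib.Base.card_subgroupOf (Q_le_edge h hadj), hq, mul_comm 2] at hmul
    haveI := h.finite_le (pCoreOf_le 2 (St δ))
    exact Nat.eq_of_mul_eq_mul_left Nat.card_pos hmul
  by_contra hcon
  push Not at hcon
  have := (Subgroup.mul_mem_iff_of_index_two hidx (a := ⟨s⁻¹, Subgroup.inv_mem _ hs⟩) (b := ⟨t, ht⟩)).2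
  simp only [Subgroup.mem_subgroupOf, Subgroup.coe_mul, Subgroup.inv_mem_iff] at this
  exact hcon.2 (this ⟨fun h' => absurd h' hsQ, fun h' => absurd h' hcon.1⟩)

/-- An element commuting with `Q` and with one element outside `Q` is centralized by the edge. -/
theorem commute_edge (h : Hyp M₁ M₂) {δ μ : V} (hadj : Adj δ μ) {s z : X}
    (hs : s ∈ edgeStabilizer δ μ) (hsQ : s ∉ vertexQ 2 δ) (hQ : ∀ q ∈ vertexQ 2 δ, q * z = z * q)
    (hsz : s * z = z * s) : ∀ t ∈ edgeStabilizer δ μ, t * z = z * t := by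
  intro t ht
  rcases mem_or_mul_mem h hadj hs hsQ ht with htQ | htQ
  · exact hQ t htQ
  have := hQ _ htQ
  calc t * z = s * (s⁻¹ * t * z) := by group
    _ = s * (z * (s⁻¹ * t)) := by rw [this]
    _ = (s * z) * s⁻¹ * t := by group
    _ = z * t := by rw [hsz]; group

end CfsgLib.LocalEven.S3Amalgam
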