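import Cfsg.Agent.Lib.LocalEven.S3Amalgam.Basic

/-!
Critical pairs of an amalgam with both residues `S₃`.
-/

set_option autoImplicit false
set_option linter.unusedSectionVars false

namespace CfsgLib.LocalEven.S3Amalgam

open Cfsg

variable {X : Type*} [Group X] {M₁ M₂ : Subgroup X}

local notation "V" => CosetVertex M₁ M₂
local notation "Adj" => SimpleGraph.Adj (cosetGraph M₁ M₂)
local notation "dst" => SimpleGraph.dist (cosetGraph M₁ M₂)
local notation "St" => MulAction.stabilizer X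
local notation "bd" => criticalDistance 2 M₁ M₂

theorem dst_comm {x y : V} : dst x y = dst y x := SimpleGraph.dist_comm

theorem dst_le_succ (h : Hyp M₁ M₂) {x y : V} (z : V) (hxy : Adj x y) : dst x z ≤ dst y z + 1 := by
  have := (cosetGraph_connected h.pair.1.1).dist_triangle (u := x) (v := y) (w := z)
  rw [SimpleGraph.dist_eq_one_iff_adj.2 hxy] at this
  omega

theorem dst_smul (h : Hyp M₁ M₂) (g : X) (x y : V) : dst (g • x) (g • y) = dst x y := by
  refine le_antisymm (Iter.dist_smul_le h.pair g x y) ?_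
  have := Iter.dist_smul_le h.pair g⁻¹ (g • x) (g • y)
  simpa only [inv_smul_smul] using this

theorem isLeft_adj {x y : V} (hxy : Adj x y) : Sum.isLeft x = !Sum.isLeft y := by
  obtain ⟨k, ⟨rfl, rfl⟩ | ⟨rfl, rfl⟩⟩ := cosetGraph_adj_iff.1 hxy <;> rfl

theorem even_dst_iff (h : Hyp M₁ M₂) (x y : V) :
    Even (dst x y) ↔ Sum.isLeft x = Sum.isLeft y := by
  induction hn : dst x y generalizing x with
  | zero =>
    have := (cosetGraph_connected h.pair.1.1).dist_eq_zero_iff.1 hn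
    simp [this]
  | succ n ih =>
    obtain ⟨c, hc, hd⟩ := exists_adj_dist_succ (cosetGraph_connected h.pair.1.1) (a := x) (b := y)
      (by omega)
    have := ih c (by omega)
    rw [Nat.even_add_one, this, isLeft_adj hc]
    cases Sum.isLeft c <;> cases Sum.isLeft y <;> simp

theorem exists_smul_eq {x y : V} (e : Sum.isLeft x = Sum.isLeft y) : ∃ g : X, g • x = y := by
  rcases x with x | x <;> rcases y with y | y <;> simp at e <;>
    obtain ⟨g, hg⟩ := MulAction.exists_smul_eq X x y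
  · exact ⟨g, congrArg Sum.inl hg⟩
  · exact ⟨g, congrArg Sum.inr hg⟩

theorem neighbourKernel_eq (h : Hyp M₁ M₂) (δ : V) : neighbourKernel δ = vertexQ 2 δ :=
  le_antisymm (neighbourKernel_le h δ) (vertexQ_le_neighbourKernel h.pair δ)

theorem exists_crit (h : Hyp M₁ M₂) : ∃ α α' : V, IsCriticalPair 2 α α' := by
  by_cases hne : ∃ δ μ : V, ¬ vertexZ 2 δ ≤ neighbourKernel μ
  · obtain ⟨δ, μ, hn⟩ := hne
    obtain ⟨x, y, hd, hn'⟩ := Nat.sInf_mem (s := {n : ℕ | ∃ δ μ : V,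
      dst δ μ = n ∧ ¬ vertexZ 2 δ ≤ neighbourKernel μ}) ⟨_, δ, μ, rfl, hn⟩
    exact ⟨x, y, hn', hd⟩
  · push Not at hne
    exfalso
    set o : V := Sum.inl ((1 : X) : X ⧸ M₁)
    exact Iter.vertexZ_ne_bot h.pair o (eq_bot_of_fix_all h.pair.1.2.2.2 fun t ht v =>
      MulAction.mem_stabilizer_iff.1 (Subgroup.mem_inf.1 (hne o v ht)).1)

theorem bd_pos (h : Hyp M₁ M₂) : 0 < bd := by
  obtain ⟨α, α', hc⟩ := exists_crit h
  exact criticalDistance_pos h.pair hc

theorem Z_le_Q (h : Hyp M₁ M₂) {δ μ : V} (hd : dst δ μ < bd) : vertexZ 2 δ ≤ vertexQ 2 μ := by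
  rw [← neighbourKernel_eq h]
  exact vertexZ_le_neighbourKernel_of_dist_lt hd

theorem Z_le_St (h : Hyp M₁ M₂) {δ μ : V} (hd : dst δ μ ≤ bd) : vertexZ 2 δ ≤ St μ :=
  vertexZ_le_stabilizer_of_dist_le h.pair (bd_pos h) hd

theorem crit_of (h : Hyp M₁ M₂) {δ μ : V} (hd : dst δ μ ≤ bd)
    (hn : ¬ vertexZ 2 δ ≤ vertexQ 2 μ) : IsCriticalPair 2 δ μ := by
  refine ⟨by rwa [neighbourKernel_eq h], le_antisymm hd ?_⟩
  by_contra hlt
  exact hn (Z_le_Q h (not_le.1 hlt))

theorem crit_not_le (h : Hyp M₁ M₂) {α α' : V} (hc : IsCriticalPair 2 α α') :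
    ¬ vertexZ 2 α ≤ vertexQ 2 α' := by
  rw [← neighbourKernel_eq h]
  exact hc.1

theorem crit_symm (h : Hyp M₁ M₂) {α α' : V} (hc : IsCriticalPair 2 α α') :
    IsCriticalPair 2 α' α := by
  refine crit_of h (by rw [dst_comm]; exact hc.2.le) fun hle => crit_not_le h hc fun z hz => ?_
  refine mem_Q_of_commute h (Z_le_St h hc.2.le hz) fun z' hz' => ?_
  exact ((vertexZ_facts h hz).2.1 z' (hle hz')).symm

theorem crit_smul (h : Hyp M₁ M₂) (g : X) {α α' : V} (hc : IsCriticalPair 2 α α') :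
    IsCriticalPair 2 (g • α) (g • α') := by
  refine crit_of h (by rw [dst_smul h]; exact hc.2.le) fun hle => crit_not_le h hc fun z hz => ?_
  have := conj_mem_vertexQ g⁻¹ (hle (conj_mem_vertexZ h g hz))
  rw [inv_smul_smul] at this
  simpa [mul_assoc] using this

theorem exists_pred (h : Hyp M₁ M₂) {α α' : V} (hc : IsCriticalPair 2 α α') :
    ∃ c, Adj α c ∧ dst c α' + 1 = bd := by
  have := bd_pos h
  obtain ⟨c, h1, h2⟩ := exists_adj_dist_succ (cosetGraph_connected h.pair.1.1) (a := α) (b := α')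
    (by rw [hc.2]; omega)
  exact ⟨c, h1, by rw [h2, hc.2]⟩

/-- The other end of a critical pair lies in the edge stabilizer of the first step. -/
theorem Z_le_edge (h : Hyp M₁ M₂) {α α' c : V} (hc : IsCriticalPair 2 α α')
    (hcd : dst c α' ≤ bd) : vertexZ 2 α' ≤ edgeStabilizer α c :=
  le_inf (Z_le_St h (by rw [dst_comm]; exact hc.2.le)) (Z_le_St h (by rwa [dst_comm]))

theorem mem_Q_iff (h : Hyp M₁ M₂) {α α' c : V} (hc : IsCriticalPair 2 α α') (hadj : Adj α c)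
    (hcd : dst c α' ≤ bd) {z : X} (hz : z ∈ vertexZ 2 α) :
    z ∈ vertexQ 2 α' ↔ ∀ t ∈ edgeStabilizer α c, t * z = z * t := by
  refine ⟨fun hzQ => ?_, fun hcomm => ?_⟩
  · obtain ⟨z', hz', hn⟩ := SetLike.not_le_iff_exists.1 (crit_not_le h (crit_symm h hc))
    exact commute_edge h hadj (Z_le_edge h hc hcd hz') hn (vertexZ_facts h hz).2.1
      ((vertexZ_facts h hz').2.1 z hzQ).symm
  · exact mem_Q_of_commute h (Z_le_St h hc.2.le hz) fun w hw =>
      (hcomm w (Z_le_edge h hc hcd hw)).symm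

theorem comm_ne (h : Hyp M₁ M₂) {α α' : V} (hc : IsCriticalPair 2 α α') {z z' : X}
    (hz : z ∈ vertexZ 2 α) (hzQ : z ∉ vertexQ 2 α') (hz' : z' ∈ vertexZ 2 α')
    (hz'Q : z' ∉ vertexQ 2 α) : z * z' ≠ z' * z := by
  intro e
  obtain ⟨c, hadj, hcd⟩ := exists_pred h hc
  exact hzQ ((mem_Q_iff h hc hadj (by omega) hz).2
    (commute_edge h hadj (Z_le_edge h hc (by omega) hz') hz'Q (vertexZ_facts h hz).2.1 e.symm))

theorem comm_mem (h : Hyp M₁ M₂) {α α' c' : V} (hc : IsCriticalPair 2 α α') (hadj : Adj α' c')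
    (hcd : dst c' α ≤ bd) {x y : X} (hx : x ∈ edgeStabilizer α' c') (hy : y ∈ vertexZ 2 α') :
    x * y * x⁻¹ * y⁻¹ ∈ vertexZ 2 α := by
  obtain ⟨z, hz, hzQ⟩ := SetLike.not_le_iff_exists.1 (crit_not_le h hc)
  have hzT := Z_le_edge h (crit_symm h hc) hcd hz
  rcases mem_or_mul_mem h hadj hzT hzQ hx with hxQ | hxQ
  · rw [(vertexZ_facts h hy).2.1 x hxQ, mul_inv_cancel_right, mul_inv_cancel]
    exact Subgroup.one_mem _
  · have e : x * y * x⁻¹ * y⁻¹ = z * (y * z⁻¹ * y⁻¹) := by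
      have := (vertexZ_facts h hy).2.1 _ hxQ
      calc x * y * x⁻¹ * y⁻¹ = z * (z⁻¹ * x * y) * x⁻¹ * y⁻¹ := by group
        _ = z * (y * (z⁻¹ * x)) * x⁻¹ * y⁻¹ := by rw [this]
        _ = z * (y * z⁻¹ * y⁻¹) := by group
    rw [e]
    exact Subgroup.mul_mem _ hz (conj_mem_vertexZ_self h
      (Z_le_St h (by rw [dst_comm]; exact hc.2.le) hy) (Subgroup.inv_mem _ hz))

/-- The commutator of a critical pair. -/
theorem r_facts (h : Hyp M₁ M₂) {α α' : V} (hc : IsCriticalPair 2 α α') {z z' : X}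
    (hz : z ∈ vertexZ 2 α) (hzQ : z ∉ vertexQ 2 α') (hz' : z' ∈ vertexZ 2 α')
    (hz'Q : z' ∉ vertexQ 2 α) :
    z * z' * (z * z') ≠ 1 ∧ z * z' * (z * z') ∈ vertexZ 2 α ∧ z * z' * (z * z') ∈ vertexZ 2 α' ∧
      (∀ c, Adj α c → dst c α' ≤ bd → ∀ t ∈ edgeStabilizer α c,
        t * (z * z' * (z * z')) = (z * z' * (z * z')) * t) ∧
      ∀ c, Adj α' c → dst c α ≤ bd → ∀ t ∈ edgeStabilizer α' c,
        t * (z * z' * (z * z')) = (z * z' * (z * z')) * t := by
  obtain ⟨-, hzc, hz2⟩ := vertexZ_facts h hz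
  obtain ⟨-, hz'c, hz'2⟩ := vertexZ_facts h hz'
  have iz : z⁻¹ = z := inv_eq_of_mul_eq_one_right hz2
  have iz' : z'⁻¹ = z' := inv_eq_of_mul_eq_one_right hz'2
  set r := z * z' * (z * z') with hr
  have hzS : z ∈ St α' := Z_le_St h hc.2.le hz
  have hz'S : z' ∈ St α := Z_le_St h (by rw [dst_comm]; exact hc.2.le) hz'
  have hra : r ∈ vertexZ 2 α := by
    have : r = z * (z' * z * z'⁻¹) * (z'⁻¹)⁻¹ * z' := by rw [hr]; group
    rw [this, inv_inv, mul_assoc _ z' z', hz'2, mul_one]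
    exact Subgroup.mul_mem _ hz (conj_mem_vertexZ_self h hz'S hz)
  have hrb : r ∈ vertexZ 2 α' := by
    have : r = (z * z' * z⁻¹) * z' := by rw [hr, iz]; group
    rw [this]
    exact Subgroup.mul_mem _ (conj_mem_vertexZ_self h hzS hz') hz'
  have hr2 : r * r = 1 := (vertexZ_facts h hra).2.2
  have ir : r⁻¹ = r := inv_eq_of_mul_eq_one_right hr2
  have e1 : z' * r = r * z' := by
    have : r⁻¹ = z' * r * z'⁻¹ := by
      rw [hr, iz']
      simp only [mul_inv_rev, iz, iz']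
      simp only [mul_assoc, hz'2, mul_one]
    rw [ir] at this
    calc z' * r = z' * r * z'⁻¹ * z' := by group
      _ = r * z' := by rw [← this]
  have e2 : z * r = r * z := by
    have : r⁻¹ = z * r * z⁻¹ := by
      rw [hr, iz]
      simp only [mul_inv_rev, iz, iz']
      rw [← mul_assoc z (z * z'), ← mul_assoc z z, hz2, one_mul]
      group
    rw [ir] at this
    calc z * r = z * r * z⁻¹ * z := by group
      _ = r * z := by rw [← this]
  refine ⟨fun e => comm_ne h hc hz hzQ hz' hz'Q ?_, hra, hrb, fun c hadj hcd => ?_,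
    fun c hadj hcd => ?_⟩
  · calc z * z' = (z * z')⁻¹ := (inv_eq_of_mul_eq_one_right e).symm
      _ = z' * z := by rw [mul_inv_rev, iz, iz']
  · exact commute_edge h hadj (Z_le_edge h hc hcd hz') hz'Q (vertexZ_facts h hra).2.1 e1
  · exact commute_edge h hadj (Z_le_edge h (crit_symm h hc) hcd hz) hzQ (vertexZ_facts h hrb).2.1 e2

theorem exists_r (h : Hyp M₁ M₂) {α α' : V} (hc : IsCriticalPair 2 α α') :
    ∃ r : X, r ≠ 1 ∧ r ∈ vertexZ 2 α ∧ r ∈ vertexZ 2 α' ∧
      (∀ c, Adj α c → dst c α' ≤ bd → ∀ t ∈ edgeStabilizer α c, t * r = r * t) ∧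
      ∀ c, Adj α' c → dst c α ≤ bd → ∀ t ∈ edgeStabilizer α' c, t * r = r * t := by
  obtain ⟨z, hz, hzQ⟩ := SetLike.not_le_iff_exists.1 (crit_not_le h hc)
  obtain ⟨z', hz', hz'Q⟩ := SetLike.not_le_iff_exists.1 (crit_not_le h (crit_symm h hc))
  exact ⟨_, r_facts h hc hz hzQ hz' hz'Q⟩

theorem central_of_sup {A B H : Subgroup X} {e : X} (hH : A ⊔ B = H)
    (hA : ∀ t ∈ A, t * e = e * t) (hB : ∀ t ∈ B, t * e = e * t) : ∀ t ∈ H, t * e = e * t := by
  have key : ∀ K : Subgroup X, (∀ t ∈ K, t * e = e * t) → K ≤ Subgroup.centralizer {e} :=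
    fun K hK t ht => Subgroup.mem_centralizer_singleton_iff.2 (hK t ht)
  intro t ht
  rw [← hH] at ht
  exact Subgroup.mem_centralizer_singleton_iff.1 (sup_le (key A hA) (key B hB) ht)

theorem central_of_edges (h : Hyp M₁ M₂) {δ μ ν : V} (hμ : Adj δ μ) (hν : Adj δ ν) (hne : μ ≠ ν)
    {e : X} (h1 : ∀ t ∈ edgeStabilizer δ μ, t * e = e * t)
    (h2 : ∀ t ∈ edgeStabilizer δ ν, t * e = e * t) : ∀ t ∈ St δ, t * e = e * t :=
  central_of_sup (edge_sup_edge h hμ hν hne) h1 h2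

/-- In a neighbourhood of the predecessor, the other end moves every other neighbour. -/
theorem not_le_edge (h : Hyp M₁ M₂) {α α' c a : V} (hc : IsCriticalPair 2 α α') (hadj : Adj α c)
    (hcd : dst c α' ≤ bd) (ha : Adj α a) (hne : a ≠ c) :
    ¬ vertexZ 2 α' ≤ edgeStabilizer α a := by
  intro hle
  refine crit_not_le h (crit_symm h hc) fun w hw => ?_
  exact mem_Q_of_fix_two h ha hadj hne (hle hw) (Z_le_edge h hc hcd hw).2

/-- An element centralizing an edge and the far end centralizes the vertex stabilizer. -/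
theorem central_of_far (h : Hyp M₁ M₂) {α α' c a : V} (hc : IsCriticalPair 2 α α')
    (hadj : Adj α c) (hcd : dst c α' ≤ bd) (ha : Adj α a) (hne : a ≠ c) {e : X}
    (h1 : ∀ t ∈ edgeStabilizer α a, t * e = e * t)
    (h2 : ∀ t ∈ vertexZ 2 α', t * e = e * t) : ∀ t ∈ St α, t * e = e * t :=
  central_of_sup (edge_sup h ha (Z_le_St h (by rw [dst_comm]; exact hc.2.le))
    (not_le_edge h hc hadj hcd ha hne)) h1 h2

/-- An element of an edge stabilizer central at `a` and centralizing the far end is trivial. -/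
theorem eq_one_of_far (h : Hyp M₁ M₂) {α α' c a : V} (hc : IsCriticalPair 2 α α')
    (hadj : Adj α c) (hcd : dst c α' ≤ bd) (ha : Adj α a) (hne : a ≠ c) {e : X}
    (he : e ∈ edgeStabilizer α a) (h1 : ∀ t ∈ St a, t * e = e * t)
    (h2 : ∀ t ∈ vertexZ 2 α', t * e = e * t) : e = 1 :=
  eq_one_of_central h ha he
    (central_of_far h hc hadj hcd ha hne (fun t ht => h1 t ht.2) h2) h1

end CfsgLib.LocalEven.S3Amalgam
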