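import Cfsg.Agent.Lib.LocalEven.S3Amalgam.Crit

/-!
The critical distance of an amalgam with both residues `S₃` is one.
-/

set_option autoImplicit false
set_option linter.unusedSectionVars false

namespace CfsgLib.LocalEven.S3Amalgam

open Cfsg

variable {X : Type*} [Group X] {M₁ M₂ : Subgroup X}

local notation "V" => CosetVertex M₁ M₂
local notation "Adj" => SimpleGraph.Adj (cosetGraph M₁ M₂)
local notation "dst" => SimpleGraph.dist (cosetGraph M₁ M₂)
local notation "St" => MulAction.stabilizer X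
local notation "bd" => criticalDistance 2 M₁ M₂

theorem edge_comm (x y : V) : edgeStabilizer x y = edgeStabilizer y x := inf_comm ..

theorem dst_adj {x y : V} (hxy : Adj x y) : dst x y = 1 := SimpleGraph.dist_eq_one_iff_adj.2 hxy

theorem map_vertexZ (h : Hyp M₁ M₂) (g : X) (δ : V) :
    (vertexZ 2 δ).map (MulAut.conj g).toMonoidHom = vertexZ 2 (g • δ) := by
  refine le_antisymm (Iter.map_vertexZ_le h.pair g δ) fun x hx => ?_
  have := conj_mem_vertexZ h g⁻¹ hx
  rw [inv_smul_smul] at this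
  exact ⟨_, this, by simp [mul_assoc]⟩

theorem mem_normalizer_of_le {H : Subgroup X} [Finite H] {g : X}
    (hg : H.map (MulAut.conj g).toMonoidHom ≤ H) : g ∈ Subgroup.normalizer (H : Set X) :=
  CfsgLib.LocalEven.mem_normalizer_of_conj (Subgroup.eq_of_le_of_card_ge hg
    (by rw [Subgroup.card_map_of_injective (f := (MulAut.conj g).toMonoidHom) (MulAut.conj g).injective]))

theorem map_conj_eq {H : Subgroup X} {g : X} (hg : g ∈ Subgroup.normalizer (H : Set X)) :
    H.map (MulAut.conj g).toMonoidHom = H :=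
  Subgroup.mem_normalizer_iff_map_conj_eq.1 hg

/-- Every neighbour's `Z` is inside the join of the `Z` of the vertex and of any neighbour. -/
def PropB (δ : V) : Prop :=
  ∀ μ ν : V, Adj δ μ → Adj δ ν → vertexZ 2 ν ≤ vertexZ 2 δ ⊔ vertexZ 2 μ

theorem PropB.smul (h : Hyp M₁ M₂) (g : X) {δ : V} (hP : PropB δ) : PropB (g • δ) := by
  intro μ ν hμ hν
  have hμ' := cosetGraph_adj_smul g⁻¹ hμ
  have hν' := cosetGraph_adj_smul g⁻¹ hν
  rw [inv_smul_smul] at hμ' hν'
  have := Subgroup.map_mono (f := (MulAut.conj g).toMonoidHom) (hP _ _ hμ' hν')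
  simpa only [Subgroup.map_sup, map_vertexZ h, smul_inv_smul] using this

theorem Q_not_le (h : Hyp M₁ M₂) {δ μ : V} (hadj : Adj δ μ) :
    ¬ vertexQ 2 μ ≤ vertexQ 2 δ := by
  intro hle
  haveI := h.finite_le (pCoreOf_le 2 (St δ))
  obtain ⟨-, -, hq, -⟩ := h.edge hadj
  obtain ⟨-, -, hq', -⟩ := h.edge hadj.symm
  rw [edge_comm] at hq'
  have e : vertexQ 2 μ = vertexQ 2 δ := Subgroup.eq_of_le_of_card_ge hle (by omega)
  have hb : vertexQ 2 δ = ⊥ := eq_bot_of_normal h hadj (Q_le_edge h hadj)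
    (le_normalizer_pCoreOf 2 _) (e ▸ le_normalizer_pCoreOf 2 _)
  refine Iter.vertexZ_ne_bot h.pair δ (eq_bot_iff.2 fun z hz => ?_)
  rw [← hb]
  exact (vertexZ_facts h hz).1

theorem crit_ne (h : Hyp M₁ M₂) {α α' : V} (hc : IsCriticalPair 2 α α') : α ≠ α' := by
  rintro rfl
  have := hc.2
  have := bd_pos h
  simp at *
  omega

theorem crit_of_common (h : Hyp M₁ M₂) {δ μ ν μ' ν' : V} (hμ : Adj δ μ) (hν : Adj δ ν)
    (hμ' : Adj δ μ') (hν' : Adj δ ν') (hc : IsCriticalPair 2 μ ν) (hne' : μ' ≠ ν') :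
    IsCriticalPair 2 μ' ν' := by
  have hne := crit_ne h hc
  obtain ⟨g, hg, hgm⟩ := exists_stabilizer_transitive hμ hμ'
  have hν2 : Adj δ (g • ν) := by
    have := cosetGraph_adj_smul g hν
    rwa [MulAction.mem_stabilizer_iff.1 hg] at this
  obtain ⟨t, ht, htn⟩ := exists_swap h hμ' hν2 hν'
    (fun e => hne (smul_left_cancel g (hgm.trans e))) hne'
  have := crit_smul h t (crit_smul h g hc)
  rwa [hgm, MulAction.mem_stabilizer_iff.1 ht.2, htn] at this

theorem mem_normalizer_W (h : Hyp M₁ M₂) {α α' x' a : V} (hc : IsCriticalPair 2 α α')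
    (hx : Adj α' x') (hxd : dst x' α ≤ bd) {A : Subgroup X} (hA : A ≤ St α)
    {Z' : Subgroup X} (hA' : A = vertexZ 2 α ⊔ Z') (hZ' : Z' ≤ edgeStabilizer α' x')
    (hZA : Z' = vertexZ 2 a) {y : X} (hy : y ∈ vertexZ 2 α') :
    y ∈ Subgroup.normalizer (A : Set X) := by
  haveI := h.finite_le hA
  refine mem_normalizer_of_le ?_
  subst hA'
  rw [Subgroup.map_sup]
  refine sup_le ((map_conj_eq (stabilizer_le_normalizer_vertexZ α
    (Z_le_St h (by rw [dst_comm]; exact hc.2.le) hy))).le.trans le_sup_left) ?_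
  rintro _ ⟨x, hxm, rfl⟩
  have e : (MulAut.conj y).toMonoidHom x = (x * y * x⁻¹ * y⁻¹)⁻¹ * x := by
    simp [mul_assoc]
  rw [e]
  exact Subgroup.mul_mem _ (Subgroup.inv_mem _ (le_sup_left (a := vertexZ 2 α)
    (comm_mem h hc hx hxd (hZ' hxm) hy))) (le_sup_right (a := vertexZ 2 α) hxm)

theorem propB_of_not_shift (h : Hyp M₁ M₂) (hb : 2 ≤ bd) {α α' c a x' : V}
    (hc : IsCriticalPair 2 α α') (hadj : Adj α c) (hcd : dst c α' + 1 = bd) (ha : Adj α a)
    (hne : a ≠ c) (hx : Adj α' x') (hxd : dst x' α + 1 = bd)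
    (hB : vertexZ 2 a ≤ vertexQ 2 x') :
    PropB α ∧ St α ≤ Subgroup.normalizer ((vertexZ 2 α ⊔ vertexZ 2 a : Subgroup X) : Set X) := by
  set W := vertexZ 2 α ⊔ vertexZ 2 a with hW
  have hWle : W ≤ St α := sup_le
    (Z_le_St h (by simp)) (Z_le_St h (by rw [dst_comm, dst_adj ha]; omega))
  haveI := h.finite_le hWle
  have hn : St α ≤ Subgroup.normalizer (W : Set X) := by
    rw [← edge_sup h ha (Z_le_St h (by rw [dst_comm]; exact hc.2.le))
      (not_le_edge h hc hadj (by omega) ha hne)]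
    refine sup_le (fun t ht => mem_normalizer_of_le ?_) fun y hy => ?_
    · rw [hW, Subgroup.map_sup, map_vertexZ h, map_vertexZ h,
        MulAction.mem_stabilizer_iff.1 ht.1, MulAction.mem_stabilizer_iff.1 ht.2]
    · refine mem_normalizer_W h hc hx (by omega) hWle hW ?_ rfl hy
      rw [edge_comm]
      exact hB.trans (Q_le_edge h hx.symm)
  refine ⟨fun μ ν hμ hν => ?_, hn⟩
  have key : ∀ ρ, Adj α ρ → vertexZ 2 α ⊔ vertexZ 2 ρ = W := by
    intro ρ hρ
    obtain ⟨g, hg, hga⟩ := exists_stabilizer_transitive ha hρ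
    have := map_conj_eq (hn hg)
    rwa [hW, Subgroup.map_sup, map_vertexZ h, map_vertexZ h, hga,
      MulAction.mem_stabilizer_iff.1 hg] at this
  rw [key μ hμ, ← key ν hν]
  exact le_sup_right

theorem not_propB_pred (h : Hyp M₁ M₂) (hb : 2 ≤ bd) {α α' c : V} (hc : IsCriticalPair 2 α α')
    (hadj : Adj α c) (hcd : dst c α' + 1 = bd) (hP : PropB c) : False := by
  obtain ⟨e, he, hed⟩ := exists_adj_dist_succ (cosetGraph_connected h.pair.1.1) (a := c) (b := α')
    (by omega)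
  exact crit_not_le h hc ((hP e α he hadj.symm).trans
    (sup_le (Z_le_Q h (by omega)) (Z_le_Q h (by omega))))

theorem false_of_propB_two (h : Hyp M₁ M₂) (hb : bd = 2) {α α' c : V}
    (hc : IsCriticalPair 2 α α') (hadj : Adj α c) (hcα' : Adj c α') (hP : PropB α) : False := by
  set W := vertexZ 2 α ⊔ vertexZ 2 c with hW
  have hWle : W ≤ St α := sup_le (Z_le_St h (by simp))
    (Z_le_St h (by rw [dst_comm, dst_adj hadj]; omega))
  haveI := h.finite_le hWle
  have hWn : St α ≤ Subgroup.normalizer (W : Set X) := by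
    intro g hg
    refine mem_normalizer_of_le ?_
    have hg' : Adj α (g • c) := by
      have := cosetGraph_adj_smul g hadj
      rwa [MulAction.mem_stabilizer_iff.1 hg] at this
    rw [hW, Subgroup.map_sup, map_vertexZ h, map_vertexZ h, MulAction.mem_stabilizer_iff.1 hg]
    exact sup_le le_sup_left (hP c _ hadj hg')
  have hDn : ∀ g ∈ St α, ∀ x, x ∈ vertexQ 2 α → x ∈ vertexQ 2 c →
      g * x * g⁻¹ ∈ vertexQ 2 α ∧ g * x * g⁻¹ ∈ vertexQ 2 c := by
    intro g hg x hx hxc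
    have hxQ := conj_mem_vertexQ_self hg hx
    refine ⟨hxQ, ?_⟩
    have hxW : x ∈ Subgroup.centralizer (W : Set X) := by
      refine Subgroup.le_centralizer_iff.1 (sup_le (fun z hz => ?_) (fun z hz => ?_))
        (Subgroup.mem_zpowers x) <;>
        refine Subgroup.mem_centralizer_iff.2 ?_ <;> rintro _ ⟨j, rfl⟩
      · exact ((show Commute x z from (vertexZ_facts h hz).2.1 x hx).zpow_left j).eq
      · exact ((show Commute x z from (vertexZ_facts h hz).2.1 x hxc).zpow_left j).eq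
    have hgW : g * x * g⁻¹ ∈ Subgroup.centralizer (W : Set X) :=
      (Subgroup.mem_normalizer_iff.1 (normalizer_le_normalizer_centralizer _ (hWn hg)) x).1 hxW
    exact mem_Q_of_commute h (Q_le_edge h hadj hxQ).2 fun z hz =>
      (Subgroup.mem_centralizer_iff.1 hgW z (le_sup_right (a := vertexZ 2 α) hz)).symm
  obtain ⟨q, hqα, hqc⟩ := SetLike.not_le_iff_exists.1 (Q_not_le h hadj.symm)
  have hqT := Q_le_edge h hadj hqα
  have hne := crit_ne h hc
  have hqne : q • α' ≠ α' := fun e =>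
    hqc (mem_Q_of_fix_two h hadj.symm hcα' hne (edge_comm α c ▸ hqT) e)
  set a3 := q • α' with ha3
  have ha3c : Adj c a3 := by
    have := cosetGraph_adj_smul q hcα'
    rwa [MulAction.mem_stabilizer_iff.1 hqT.2] at this
  have ha3α : α ≠ a3 := fun e =>
    hne (smul_left_cancel q ((MulAction.mem_stabilizer_iff.1 hqT.1).trans e))
  have hqa3 : q • a3 = α' := by
    have h3 : Adj c (q • a3) := by
      have := cosetGraph_adj_smul q ha3c
      rwa [MulAction.mem_stabilizer_iff.1 hqT.2] at this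
    rcases neighbour_cover h hadj.symm hcα' ha3c h3 hne ha3α hqne.symm with e | e | e
    · exact absurd (smul_left_cancel q ((MulAction.mem_stabilizer_iff.1 hqT.1).trans e.symm)) ha3α
    · exact e
    · exact absurd (smul_left_cancel q (e.trans ha3)) hqne
  have hc3 : IsCriticalPair 2 α' a3 :=
    crit_of_common h hadj.symm hcα' hcα' ha3c hc hqne.symm
  obtain ⟨z, hz, hzQ⟩ := SetLike.not_le_iff_exists.1 (crit_not_le h (crit_symm h hc))
  have hcd : ∀ μ, Adj c μ → dst c μ ≤ bd := fun μ hμ => by rw [dst_adj hμ]; omega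
  have hiff : ∀ μ, Adj c μ → IsCriticalPair 2 α' μ →
      (z ∈ vertexQ 2 μ ↔ ∀ t ∈ edgeStabilizer α' c, t * z = z * t) := fun μ hμ hcr =>
    mem_Q_iff h hcr hcα'.symm (hcd μ hμ) hz
  have hz3 : z ∉ vertexQ 2 a3 := fun e =>
    hzQ ((hiff α hadj.symm (crit_symm h hc)).2 ((hiff a3 ha3c hc3).1 e))
  have hz' : q * z * q⁻¹ ∈ vertexZ 2 a3 := conj_mem_vertexZ h q hz
  have hz'Q : q * z * q⁻¹ ∉ vertexQ 2 α' := by
    intro e
    have := conj_mem_vertexQ q⁻¹ e
    rw [show q⁻¹ • α' = a3 from by rw [← hqa3, inv_smul_smul]] at this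
    exact hz3 (by simpa [mul_assoc] using this)
  obtain ⟨hr1, hra, hrb, hc1, hc2⟩ := r_facts h hc3 hz hz3 hz' hz'Q
  set u := z * (q * z * q⁻¹) with hu
  have hz2 := (vertexZ_facts h hz).2.2
  have hzα : z ∈ St α := Z_le_St h (by rw [dst_comm]; exact hc.2.le) hz
  have iz : z⁻¹ = z := inv_eq_of_mul_eq_one_right hz2
  have huD : u ∈ vertexQ 2 α ∧ u ∈ vertexQ 2 c := by
    refine ⟨?_, ?_⟩
    · have : u = (z * q * z⁻¹) * q⁻¹ := by rw [hu, iz]; group
      rw [this]
      exact Subgroup.mul_mem _ (conj_mem_vertexQ_self hzα hqα) (Subgroup.inv_mem _ hqα)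
    · have hzc : z ∈ vertexQ 2 c := Z_le_Q h (by rw [dst_adj hcα'.symm]; omega) hz
      exact Subgroup.mul_mem _ hzc (conj_mem_vertexQ_self hqT.2 hzc)
  have hcS : ∀ t ∈ St c, t * (u * u) = u * u * t :=
    central_of_edges h hcα' ha3c hqne.symm
      (fun t ht => hc1 c hcα'.symm (hcd a3 ha3c) t (edge_comm c α' ▸ ht))
      (fun t ht => hc2 c ha3c.symm (hcd α' hcα') t (edge_comm c a3 ▸ ht))
  obtain ⟨μ, hμ, hzμ⟩ : ∃ μ, Adj α μ ∧ z • μ ≠ μ := by
    by_contra hall
    push Not at hall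
    refine hzQ (neighbourKernel_le h α (Subgroup.mem_inf.2 ⟨hzα, ?_⟩))
    simp only [Subgroup.mem_iInf]
    exact fun ν hν => hall ν hν
  obtain ⟨g, hg, hgμ⟩ := exists_stabilizer_transitive hμ hadj
  set k := g * z * g⁻¹ with hk
  have hk2 : k * k = 1 := by rw [hk]; simp [mul_assoc, ← mul_assoc z z, hz2]
  have ik : k⁻¹ = k := inv_eq_of_mul_eq_one_right hk2
  set c0 := u * k * u⁻¹ * k⁻¹ with hc0
  have hc0Z : c0 ∈ vertexZ 2 α := by
    obtain ⟨hd1, hd2⟩ := hDn g⁻¹ ((St α).inv_mem hg) u huD.1 huD.2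
    rw [inv_inv] at hd1 hd2
    have := conj_mem_vertexZ_self h hg (comm_mem h hc hcα'.symm
      (by rw [dst_adj hadj.symm]; omega) (x := g⁻¹ * u * g)
      (edge_comm c α' ▸ Q_le_edge h hcα' hd2) hz)
    have e : g * (g⁻¹ * u * g * z * (g⁻¹ * u * g)⁻¹ * z⁻¹) * g⁻¹ = c0 := by
      rw [hc0, hk]; group
    rwa [e] at this
  obtain ⟨-, hc0c, hc0s⟩ := vertexZ_facts h hc0Z
  have hku : k * (u * u) = u * u * k := by
    have hcu := hc0c u huD.1
    have e : k * u * k⁻¹ = c0⁻¹ * u := by rw [hc0]; group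
    rw [inv_eq_of_mul_eq_one_right hc0s] at e
    have : k * (u * u) * k⁻¹ = u * u := by
      calc k * (u * u) * k⁻¹ = (k * u * k⁻¹) * (k * u * k⁻¹) := by group
        _ = c0 * (u * c0) * u := by rw [e]; group
        _ = (c0 * c0) * (u * u) := by rw [hcu]; group
        _ = u * u := by rw [hc0s, one_mul]
    calc k * (u * u) = k * (u * u) * k⁻¹ * k := by group
      _ = u * u * k := by rw [this]
  have hαS : ∀ t ∈ St α, t * (u * u) = u * u * t := by
    refine central_of_sup (edge_sup h hadj (H := Subgroup.zpowers k)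
      (Subgroup.zpowers_le.2 ((St α).mul_mem ((St α).mul_mem hg hzα) ((St α).inv_mem hg)))
      fun hle => ?_) (fun t ht => hcS t ht.2) fun t ht => ?_
    · have hkc : k • c = c := (hle (Subgroup.mem_zpowers k)).2
      rw [hk, mul_smul, mul_smul, ← hgμ, inv_smul_smul] at hkc
      exact hzμ (smul_left_cancel g hkc)
    · obtain ⟨j, rfl⟩ := Subgroup.mem_zpowers_iff.1 ht
      exact ((show Commute k (u * u) from hku).zpow_left j).eq
  exact hr1 (eq_one_of_central h hadj
    (Q_le_edge h hadj (Subgroup.mul_mem _ huD.1 huD.1)) hαS hcS)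

theorem false_of_propB_even (h : Hyp M₁ M₂) (hb : 3 ≤ bd) (heven : Even bd) {α α' c a x' : V}
    (hc : IsCriticalPair 2 α α') (hadj : Adj α c) (hcd : dst c α' + 1 = bd) (ha : Adj α a)
    (hne : a ≠ c) (hx : Adj α' x') (hxd : dst x' α + 1 = bd)
    (hB : vertexZ 2 a ≤ vertexQ 2 x') (hP : PropB α)
    (hWn : St α ≤ Subgroup.normalizer ((vertexZ 2 α ⊔ vertexZ 2 a : Subgroup X) : Set X)) :
    False := by
  have hconn := cosetGraph_connected h.pair.1.1
  obtain ⟨x2, hx2, hx2d⟩ := exists_adj_dist_succ hconn (a := x') (b := α) (by omega)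
  obtain ⟨x3, hx3, hx3d⟩ := exists_adj_dist_succ hconn (a := x2) (b := α) (by omega)
  have hαx2 : dst α x2 + 2 = bd := by rw [dst_comm]; omega
  have hαx3 : dst α x3 + 3 = bd := by rw [dst_comm]; omega
  have hax2 := dst_le_succ h x2 ha.symm
  have hax3 := dst_le_succ h x3 ha.symm
  obtain ⟨v1, v2, hv1, hv2, hv1α, hv2α, hv12⟩ := exists_other h ha.symm
  have hd : ∀ v, Adj a v → dst v x2 ≤ bd ∧ dst v x3 < bd := fun v hv => by
    have h1 := dst_le_succ h x2 hv.symm
    have h2 := dst_le_succ h x3 hv.symm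
    omega
  have hx2α' : dst x2 α' < bd := by
    have := dst_le_succ h α' hx2.symm
    rw [dst_adj hx.symm] at this
    omega
  obtain ⟨v, hv, hvα, hvQ⟩ : ∃ v, Adj a v ∧ v ≠ α ∧ vertexZ 2 v ≤ vertexQ 2 x2 := by
    by_contra hno
    push Not at hno
    have hc1 := crit_of h (hd v1 hv1).1 (hno v1 hv1 hv1α)
    have hc2 := crit_of h (hd v2 hv2).1 (hno v2 hv2 hv2α)
    obtain ⟨w, hw, hwQ⟩ := SetLike.not_le_iff_exists.1 (crit_not_le h (crit_symm h hc1))
    have e3 : ∀ v, Adj a v → dst x3 v ≤ bd := fun v hv => by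
      rw [dst_comm]; exact (hd v hv).2.le
    have hwQ2 : w ∉ vertexQ 2 v2 := fun e =>
      hwQ ((mem_Q_iff h (crit_symm h hc1) hx3 (e3 v1 hv1) hw).2
        ((mem_Q_iff h (crit_symm h hc2) hx3 (e3 v2 hv2) hw).1 e))
    obtain ⟨z1, hz1, hz1Q⟩ := SetLike.not_le_iff_exists.1 (crit_not_le h hc1)
    obtain ⟨z2, hz2, hz2Q⟩ := SetLike.not_le_iff_exists.1 (crit_not_le h hc2)
    obtain ⟨hr1, hra, hrb, ha1, -⟩ := r_facts h hc1 hz1 hz1Q hw hwQ
    obtain ⟨-, -, -, ha2, -⟩ := r_facts h hc2 hz2 hz2Q hw hwQ2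
    have heq : z2 * w * (z2 * w) = z1 * w * (z1 * w) := by
      rcases mem_or_mul_mem h hx3 (Z_le_edge h (crit_symm h hc1) (e3 v1 hv1) hz1) hz1Q
        (Z_le_edge h (crit_symm h hc2) (e3 v2 hv2) hz2) with e | e
      · exact absurd e hz2Q
      have hcw : Commute (z1⁻¹ * z2) w := (vertexZ_facts h hw).2.1 _ e
      have i1 : z1⁻¹ = z1 := inv_eq_of_mul_eq_one_right (vertexZ_facts h hz1).2.2
      have i2 : z2⁻¹ = z2 := inv_eq_of_mul_eq_one_right (vertexZ_facts h hz2).2.2
      have : z2 * w * z2 = z1 * w * z1 := by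
        calc z2 * w * z2 = z1 * (z1⁻¹ * z2 * w) * z2⁻¹ := by rw [i2]; group
          _ = z1 * (w * (z1⁻¹ * z2)) * z2⁻¹ := by rw [hcw.eq]
          _ = z1 * w * z1 := by simp only [mul_assoc, mul_inv_cancel, mul_one, i1]
      calc z2 * w * (z2 * w) = (z2 * w * z2) * w := by group
        _ = (z1 * w * z1) * w := by rw [this]
        _ = z1 * w * (z1 * w) := by group
    have hS : ∀ t ∈ St a, t * (z1 * w * (z1 * w)) = z1 * w * (z1 * w) * t :=
      central_of_edges h hv1 hv2 hv12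
        (fun t ht => ha1 a hv1.symm (by omega) t (edge_comm a v1 ▸ ht))
        (fun t ht => heq ▸ ha2 a hv2.symm (by omega) t (edge_comm a v2 ▸ ht))
    refine hr1 (eq_one_of_far h hc hadj (by omega) ha hne ?_ hS fun t ht => ?_)
    · rw [edge_comm]
      exact Q_le_edge h ha.symm (Z_le_Q h (by rw [dst_adj hv1.symm]; omega) hra)
    · exact ((vertexZ_facts h ht).2.1 _ (Z_le_Q h hx2α' hrb)).symm
  have hPx2 : PropB x2 := by
    obtain ⟨g, hg⟩ := exists_smul_eq (x := α) (y := x2) ((even_dst_iff h α x2).1 (by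
      obtain ⟨j, hj⟩ := heven
      exact ⟨j - 1, by omega⟩))
    exact hg ▸ hP.smul h g
  have hvx' : vertexZ 2 v ≤ vertexQ 2 x' := fun z hz => by
    refine mem_Q_of_commute h (Q_le_edge h hx2.symm (hvQ hz)).2 fun w hw => ?_
    refine Subgroup.mem_centralizer_singleton_iff.1
      ((sup_le (fun y hy => ?_) (fun y hy => ?_) :
        vertexZ 2 x2 ⊔ vertexZ 2 x3 ≤ Subgroup.centralizer {z})
        (hPx2 x3 x' hx3 hx2.symm hw)) |>.symm
    · exact Subgroup.mem_centralizer_singleton_iff.2 ((vertexZ_facts h hy).2.1 z (hvQ hz)).symm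
    · exact Subgroup.mem_centralizer_singleton_iff.2
        ((vertexZ_facts h hy).2.1 z (Z_le_Q h (hd v hv).2 hz)).symm
  set W := vertexZ 2 α ⊔ vertexZ 2 a with hW
  set Y := W ⊔ vertexZ 2 v with hY
  have hva : dst v α ≤ 2 := by
    have := dst_le_succ h α hv.symm
    rw [dst_adj ha.symm] at this
    omega
  have hYle : Y ≤ St α := sup_le (sup_le (Z_le_St h (by simp))
    (Z_le_St h (by rw [dst_adj ha.symm]; omega))) (Z_le_St h (by omega))
  haveI := h.finite_le hYle
  obtain ⟨z', hz', hz'Q⟩ := SetLike.not_le_iff_exists.1 (crit_not_le h (crit_symm h hc))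
  obtain ⟨s, hsa, hsα⟩ := SetLike.not_le_iff_exists.1 (Q_not_le h ha)
  have hsT : s ∈ edgeStabilizer α a := edge_comm a α ▸ Q_le_edge h ha.symm hsa
  have hz'α : z' ∈ St α := Z_le_St h (by rw [dst_comm]; exact hc.2.le) hz'
  have hnY : s * z' ∈ Subgroup.normalizer (Y : Set X) := by
    refine Subgroup.mul_mem _ (mem_normalizer_of_le ?_) (mem_normalizer_of_le ?_)
    · rw [hY, Subgroup.map_sup, map_conj_eq (hWn hsT.1), map_vertexZ h,
        MulAction.mem_stabilizer_iff.1 (Q_le_edge h hv hsa).2]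
    · rw [hY, Subgroup.map_sup, map_conj_eq (hWn hz'α)]
      refine sup_le le_sup_left ?_
      rintro _ ⟨x, hxm, rfl⟩
      have e : (MulAut.conj z').toMonoidHom x = (x * z' * x⁻¹ * z'⁻¹)⁻¹ * x := by simp [mul_assoc]
      rw [e]
      refine Subgroup.mul_mem _ (Subgroup.inv_mem _ ?_) (le_sup_right (a := W) hxm)
      exact le_sup_left (b := vertexZ 2 v) (le_sup_left (b := vertexZ 2 a)
        (comm_mem h hc hx (by omega) (edge_comm x' α' ▸ Q_le_edge h hx.symm (hvx' hxm)) hz'))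
  set g := s * z' with hg
  have hgα : g ∈ St α := (St α).mul_mem hsT.1 hz'α
  have hga : g • a = c := by
    have hz'c : z' • c = c := (Z_le_edge h hc (by omega) hz').2
    have h1 : z' • a ≠ a := fun e =>
      hz'Q (mem_Q_of_fix_two h hadj ha hne.symm (Z_le_edge h hc (by omega) hz') e)
    have h2 : z' • a ≠ c := fun e => hne (smul_left_cancel z' (e.trans hz'c.symm))
    have hea : Adj α (z' • a) := by
      have := cosetGraph_adj_smul z' ha
      rwa [MulAction.mem_stabilizer_iff.1 hz'α] at this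
    have hse : Adj α (s • (z' • a)) := by
      have := cosetGraph_adj_smul s hea
      rwa [MulAction.mem_stabilizer_iff.1 hsT.1] at this
    rw [hg, mul_smul]
    rcases neighbour_cover h ha hea hadj hse h1.symm hne h2 with e | e | e
    · exact absurd (smul_left_cancel s (e.trans (MulAction.mem_stabilizer_iff.1 hsT.2).symm)) h1
    · exact absurd (mem_Q_of_fix_two h ha hea h1.symm hsT e) hsα
    · exact e
  have hgv : Adj c (g • v) := hga ▸ cosetGraph_adj_smul g hv
  set U := vertexVIter 2 M₁ M₂ 1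
  have hU : ∀ δ μ : V, dst δ μ ≤ 1 → vertexZ 2 μ ≤ U δ := fun δ μ hμ =>
    le_iSup_of_le (⟨μ, hμ⟩ : {μ : V // dst δ μ ≤ 1}) le_rfl
  have hUadj : ∀ δ μ : V, Adj δ μ → vertexZ 2 μ ≤ U δ := fun δ μ hμ => hU δ μ (dst_adj hμ).le
  have hαU : vertexZ 2 α ≤ U c := hUadj c α hadj.symm
  have haU : vertexZ 2 a ≤ U c :=
    (hP c a hadj ha).trans (sup_le hαU (hU c c (by simp)))
  have hvU : vertexZ 2 v ≤ U c := by
    refine (le_sup_right.trans (map_conj_eq hnY).ge).trans ?_
    rw [hY, Subgroup.map_sup, map_conj_eq (hWn hgα), map_vertexZ h]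
    exact sup_le (sup_le hαU haU) (hUadj c _ hgv)
  obtain ⟨s', hs'α, hs'a⟩ := SetLike.not_le_iff_exists.1 (Q_not_le h ha.symm)
  have hs'T := Q_le_edge h ha hs'α
  have hs'v : s' • v ≠ v := fun e =>
    hs'a (mem_Q_of_fix_two h ha.symm hv hvα.symm (edge_comm α a ▸ hs'T) e)
  have hv'a : Adj a (s' • v) := by
    have := cosetGraph_adj_smul s' hv
    rwa [MulAction.mem_stabilizer_iff.1 hs'T.2] at this
  have hv'α : s' • v ≠ α := fun e =>
    hvα (smul_left_cancel s' (e.trans (MulAction.mem_stabilizer_iff.1 hs'T.1).symm))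
  have hle : U a ≤ U c := by
    refine iSup_le fun ⟨ρ, hρ⟩ => ?_
    rcases Nat.le_one_iff_eq_zero_or_eq_one.1 hρ with e | e
    · rw [hconn.dist_eq_zero_iff] at e
      subst e
      exact haU
    rw [SimpleGraph.dist_eq_one_iff_adj] at e
    rcases neighbour_cover h ha.symm hv hv'a e hvα.symm hv'α.symm hs'v.symm with
      rfl | rfl | rfl
    · exact hαU
    · exact hvU
    · rw [← map_vertexZ h]
      refine (Subgroup.map_mono hvU).trans (map_conj_eq ?_).le
      exact Iter.stabilizer_le_normalizer h.pair 1 c (Q_le_edge h hadj hs'α).2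
  have hfin : ∀ δ : V, U δ ≤ St δ := fun δ => iSup_le fun x => Z_le_St h (by
    have h1 := x.2
    have h2 : dst (x : V) δ = dst δ (x : V) := dst_comm
    omega)
  haveI := h.finite_le (hfin c)
  have heqU : U a = U c := Subgroup.eq_of_le_of_card_ge hle (by
    rw [← hga, show U (g • a) = (U a).map (MulAut.conj g).toMonoidHom from
        (Iter.map_iter h.pair g 1 a).symm,
      Subgroup.card_map_of_injective (f := (MulAut.conj g).toMonoidHom) (MulAut.conj g).injective])
  have hαn : St α ≤ Subgroup.normalizer (U a : Set X) := by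
    rw [← edge_sup_edge h ha hadj hne]
    refine sup_le ?_ ?_
    · exact inf_le_right.trans (Iter.stabilizer_le_normalizer h.pair 1 a)
    · rw [heqU]
      exact inf_le_right.trans (Iter.stabilizer_le_normalizer h.pair 1 c)
  have hUbot := eq_bot_of_normal h ha (U := U a) (le_inf (iSup_le fun x => by
      refine Z_le_St h ?_
      have := hconn.dist_triangle (u := (x : V)) (v := a) (w := α)
      have hρ := x.2
      have h2 : dst (x : V) a = dst a (x : V) := dst_comm
      rw [dst_adj ha.symm] at this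
      omega) (hfin a)) hαn
    (Iter.stabilizer_le_normalizer h.pair 1 a)
  exact Iter.vertexZ_ne_bot h.pair a (eq_bot_iff.2 ((hU a a (by simp)).trans hUbot.le))

/-- A critical pair can be shifted. -/
theorem shift_crit (h : Hyp M₁ M₂) (hb : 2 ≤ bd) {α α' c a x' : V}
    (hc : IsCriticalPair 2 α α') (hadj : Adj α c) (hcd : dst c α' + 1 = bd) (ha : Adj α a)
    (hne : a ≠ c) (hx : Adj α' x') (hxd : dst x' α + 1 = bd) : IsCriticalPair 2 a x' := by
  have hd : dst a x' ≤ bd := by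
    have := dst_le_succ h x' ha.symm
    have := dst_comm (x := x') (y := α)
    omega
  refine crit_of h hd fun hB => ?_
  obtain ⟨hP, hWn⟩ := propB_of_not_shift h hb hc hadj hcd ha hne hx hxd hB
  rcases Nat.even_or_odd bd with heven | hodd
  · by_cases hb3 : 3 ≤ bd
    · exact false_of_propB_even h hb3 heven hc hadj hcd ha hne hx hxd hB hP hWn
    · exact false_of_propB_two h (by omega) hc hadj
        (SimpleGraph.dist_eq_one_iff_adj.1 (by omega)) hP
  · obtain ⟨g, hg⟩ := exists_smul_eq (x := α) (y := x') ((even_dst_iff h α x').1 (by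
      obtain ⟨j, hj⟩ := hodd
      rw [dst_comm]
      exact ⟨j, by omega⟩))
    exact not_propB_pred h hb (crit_symm h hc) hx hxd (hg ▸ hP.smul h g)

theorem pow_four_central (h : Hyp M₁ M₂) {δ μ ν : V} (hμ : Adj δ μ) (hν : Adj δ ν)
    (hc : IsCriticalPair 2 μ ν) {s t : X} (ht : t ∈ St δ) (ht2 : t * t = 1) (htμ : t • μ ≠ μ)
    (hs : s ∈ vertexZ 2 μ) (hsQ : s ∉ vertexQ 2 ν) :
    s * t * (s * t) * (s * t * (s * t)) ≠ 1 ∧ s * t * (s * t) * (s * t * (s * t)) ∈ vertexZ 2 μ ∧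
      ∀ g ∈ St δ, g * (s * t * (s * t) * (s * t * (s * t))) =
        s * t * (s * t) * (s * t * (s * t)) * g := by
  have hy : Adj δ (t • μ) := by
    have := cosetGraph_adj_smul t hμ
    rwa [MulAction.mem_stabilizer_iff.1 ht] at this
  have hcy := crit_of_common h hμ hν hμ hy hc htμ.symm
  have h1 : ∀ ρ, Adj δ ρ → dst δ ρ ≤ bd := fun ρ hρ => by
    rw [dst_adj hρ]; exact bd_pos h
  have hsy : s ∉ vertexQ 2 (t • μ) := fun e =>
    hsQ ((mem_Q_iff h hc hμ.symm (h1 ν hν) hs).2 ((mem_Q_iff h hcy hμ.symm (h1 _ hy) hs).1 e))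
  have hs' : t * s * t⁻¹ ∈ vertexZ 2 (t • μ) := conj_mem_vertexZ h t hs
  have hs'Q : t * s * t⁻¹ ∉ vertexQ 2 μ := by
    intro e
    have := conj_mem_vertexQ t e
    rw [show t * (t * s * t⁻¹) * t⁻¹ = (t * t) * s * (t * t)⁻¹ by group, ht2] at this
    exact hsy (by simpa using this)
  obtain ⟨hr1, hra, -, hc1, hc2⟩ := r_facts h hcy hs hsy hs' hs'Q
  have e : s * t * (s * t) * (s * t * (s * t)) = s * (t * s * t⁻¹) * (s * (t * s * t⁻¹)) := by
    rw [inv_eq_of_mul_eq_one_right ht2]; group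
  rw [e]
  exact ⟨hr1, hra, central_of_edges h hμ hy htμ.symm
    (fun g hg => hc1 δ hμ.symm (h1 _ hy) g (edge_comm δ μ ▸ hg))
    (fun g hg => hc2 δ hy.symm (h1 μ hμ) g (edge_comm δ (t • μ) ▸ hg))⟩

theorem bd_ne_two (h : Hyp M₁ M₂) : bd ≠ 2 := by
  intro hb
  obtain ⟨α, α', hc⟩ := exists_crit h
  obtain ⟨c, hadj, hcd⟩ := exists_pred h hc
  have hcα' : Adj c α' := SimpleGraph.dist_eq_one_iff_adj.1 (by omega)
  obtain ⟨a, -, ha, -, hne, -, -⟩ := exists_other h hadj
  have hca : IsCriticalPair 2 a c :=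
    shift_crit h (by omega) hc hadj hcd ha hne hcα'.symm (by rw [dst_adj hadj.symm]; omega)
  obtain ⟨s, hs, hsQ⟩ := SetLike.not_le_iff_exists.1 (crit_not_le h hca)
  obtain ⟨t, ht, htQ⟩ := SetLike.not_le_iff_exists.1 (crit_not_le h (crit_symm h hc))
  have htT := Z_le_edge h (c := c) hc (by omega) ht
  have hta : t • a ≠ a := fun e => htQ (mem_Q_of_fix_two h hadj ha hne.symm htT e)
  have hsα : s ∈ edgeStabilizer α c :=
    Q_le_edge h hadj (Z_le_Q h (by rw [dst_adj ha.symm]; omega) hs)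
  have hsα' : s • α' ≠ α' := fun e =>
    hsQ (mem_Q_of_fix_two h hadj.symm hcα' (crit_ne h hc) (edge_comm α c ▸ hsα) e)
  obtain ⟨hr1, hra, hcα⟩ := pow_four_central h ha hadj hca htT.1 (vertexZ_facts h ht).2.2 hta hs hsQ
  obtain ⟨-, -, hcc⟩ := pow_four_central h hcα' hadj.symm (crit_symm h hc) hsα.2
    (vertexZ_facts h hs).2.2 hsα' ht htQ
  refine hr1 (eq_one_of_central h hadj
    (Q_le_edge h hadj (Z_le_Q h (by rw [dst_adj ha.symm]; omega) hra)) hcα fun g hg => ?_)
  have e : (t * s * (t * s) * (t * s * (t * s)))⁻¹ = s * t * (s * t) * (s * t * (s * t)) := by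
    simp only [mul_inv_rev, inv_eq_of_mul_eq_one_right (vertexZ_facts h ht).2.2,
      inv_eq_of_mul_eq_one_right (vertexZ_facts h hs).2.2, mul_assoc]
  rw [← e]
  exact (show Commute g _ from hcc g hg).inv_right.eq

theorem central_shift (h : Hyp M₁ M₂) (hb : 2 ≤ bd) {α α' c a x' : V}
    (hc : IsCriticalPair 2 α α') (hadj : Adj α c) (hcd : dst c α' + 1 = bd) (ha : Adj α a)
    (hne : a ≠ c) (hx : Adj α' x') (hxd : dst x' α + 1 = bd) :
    ∃ r : X, r ≠ 1 ∧ r ∈ vertexZ 2 a ∧ r ∈ vertexZ 2 x' ∧ ∀ t ∈ St α, t * r = r * t := by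
  obtain ⟨r, hr1, hra, hrx, hc1, -⟩ :=
    exists_r h (shift_crit h hb hc hadj hcd ha hne hx hxd)
  refine ⟨r, hr1, hra, hrx, central_of_far h hc hadj (by omega) ha hne (fun t ht => ?_)
    fun t ht => ?_⟩
  · exact hc1 α ha.symm (by rw [dst_comm]; omega) t (edge_comm α a ▸ ht)
  · exact ((vertexZ_facts h ht).2.1 r (Z_le_Q h (by rw [dst_adj hx.symm]; omega) hrx)).symm

theorem bd_eq_one (h : Hyp M₁ M₂) : bd = 1 := by
  have := bd_pos h
  have := bd_ne_two h
  by_contra hne1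
  have hb : 3 ≤ bd := by omega
  obtain ⟨α, α', hc⟩ := exists_crit h
  obtain ⟨c, hadj, hcd⟩ := exists_pred h hc
  obtain ⟨x', hx, hxd⟩ := exists_pred h (crit_symm h hc)
  obtain ⟨a, -, ha, -, hne, -, -⟩ := exists_other h hadj
  have hc1 := shift_crit h (by omega) hc hadj hcd ha hne hx hxd
  obtain ⟨x'', hx'', hxd''⟩ := exists_pred h (crit_symm h hc1)
  obtain ⟨v, -, hv, -, hvne, -, -⟩ := exists_other h ha.symm
  obtain ⟨r, hr1, hrv, hrx, hS⟩ := central_shift h (by omega) hc1 ha.symm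
    (by rw [dst_comm]; omega) hv hvne hx'' hxd''
  refine hr1 (eq_one_of_far h hc hadj (by omega) ha hne ?_ hS fun t ht => ?_)
  · rw [edge_comm]
    exact Q_le_edge h ha.symm (Z_le_Q h (by rw [dst_adj hv.symm]; omega) hrv)
  · refine ((vertexZ_facts h ht).2.1 r (Z_le_Q h ?_ hrx)).symm
    have := dst_le_succ h α' hx''.symm
    rw [dst_adj hx.symm] at this
    omega

end CfsgLib.LocalEven.S3Amalgam
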